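import Cfsg.Agent.OrdCrit.Main
import Cfsg.Agent.H741.Pd.Base
import Cfsg.Agent.SmallSimple.DegreeData
import Cfsg.Agent.SmallSimple.BurnsideNC
import Cfsg.Agent.H679.OutTwo
import Cfsg.Agent.H761.LieExt
import Cfsg.Agent.H875.AltCop
import Cfsg.Agent.H464.PslDeg
import Cfsg.Agent.H679.LieAlt
import Cfsg.Agent.Omega.KFactsZS_m3
import Cfsg.Agent.S2602
import Cfsg.Agent.H681.DegBasic
import Cfsg.Agent.CpAut.Alt
import Cfsg.Agent.S0253
import Cfsg.Agent.H603.SporElim
import Cfsg.Agent.H679.SporOut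
import Cfsg.Agent.H679.SporOutBig
import Cfsg.Prelude.Def_Classification2
import Cfsg.Agent.H687.Good
import Cfsg.Agent.H741.Pd.ChevHeis
import Cfsg.Agent.H877.PolG_m3
import Cfsg.Agent.S2339
import Cfsg.Agent.S2340
import Cfsg.Agent.S2341
import Cfsg.Agent.S2342
import Cfsg.Agent.S2332
import Cfsg.Agent.S2334
import Cfsg.Agent.S2335
import Cfsg.Agent.S2344
import Cfsg.Agent.S2345
import Cfsg.Agent.S2346
import Cfsg.Agent.S2347
import Cfsg.Agent.S2299
import Cfsg.Agent.OddHalf.Known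
import Cfsg.Agent.H877.PolSpRow
import Cfsg.Agent.H741.Pd.Over
import Cfsg.Agent.Characters.Central
import Cfsg.Agent.H626.RealOddE
import Cfsg.Agent.H600.Red
import Cfsg.Agent.FastGrp
import Cfsg.Agent.Prune
set_option linter.all false

section
prune_inst 0x7ff9fffcbba975deffff7e3ffef9dffe1386cfffefdff94bffec7b9f9fdf231a0bc5fba70de018fe0ed7629410b87853fb7eeeffeb6bdc7ffffd5ff45ffbee5ff7ffbd0111d394241f7c6ffffbf17f8e7f3ffffffffffffffffffff7ffffffbefffff7ffffff

-- part: H741/Pd/Sq_mg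
section
prune_inst 0x6000344560a210000004001042000084010001000020000118040202000e5300800009004e001910084002001000000811000040420000000a000000000000000028000000000000200000000004000000000000000000000000800000041000008000000
set_option linter.all false
open scoped Cfsg.Agent.FastGrp

-- part: H741/Pd/Sq
section
/-!
# `p ^ 2` divides the order of a group of Lie type in characteristic `p`, not `PSL₂(p)` (helper741)
-/

set_option autoImplicit false

namespace Cfsg.Agent.H741.Pd.Sq

open Finset Cfsg Cfsg.Agent.OrdCrit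

theorem sq_of {p q k N d n r : ℕ} (hk : k ≠ 0) (hq : q = p ^ k) (hd : Nat.Coprime d p)
    (h : d * n = q ^ N * r) (hN : 2 ≤ N) : p ^ 2 ∣ n := by
  have h1 : p ^ 2 ∣ d * n := by
    rw [h, hq, ← pow_mul]
    refine (pow_dvd_pow p ?_).mul_right _
    have : 1 ≤ k := Nat.one_le_iff_ne_zero.2 hk
    nlinarith only [hN, this]
  exact (Nat.Coprime.pow_left _ hd.symm).dvd_of_dvd_mul_left h1

section families

variable {F : Type} [Field F] [Fintype F] {p : ℕ}

theorem two_le_half (m : ℕ) : 2 ≤ (m + 2 + 1) * (m + 2 + 1 - 1) / 2 := by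
  rw [Nat.le_div_iff_mul_le (by norm_num)]
  have h7 : m + 2 + 1 - 1 = m + 2 := by omega
  rw [h7]
  nlinarith only []

theorem psl (hp : p.Prime) [CharP F p] {n : ℕ} (hn : 3 ≤ n) :
    p ^ 2 ∣ Nat.card (Matrix.ProjectiveSpecialLinearGroup (Fin n) F) := by
  obtain ⟨k, hk, hq⟩ := exists_pow (F := F) hp
  have hq2 := two_le hp hk hq
  have h := S0243.result (F := F) rfl n (by omega)
  obtain ⟨m, rfl⟩ := Nat.exists_eq_add_of_le' hn
  rw [show m + 3 = (m + 2) + 1 by ring] at h ⊢
  rw [prod_gl, Finset.prod_range_succ', zero_add, pow_one, mul_left_comm, ← mul_assoc (Fintype.card F ^ _),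
    mul_comm _ (Fintype.card F - 1)] at h
  have h' := Nat.eq_of_mul_eq_mul_left (show 0 < Fintype.card F - 1 by omega) h
  exact sq_of hk hq (Nat.Coprime.coprime_dvd_left (Nat.gcd_dvd_right _ _) (coprime_sub hp hk hq)) h' (two_le_half m)

theorem psl_two (hp : p.Prime) [CharP F p] (h2 : Fintype.card F ≠ p) :
    p ^ 2 ∣ Nat.card (Matrix.ProjectiveSpecialLinearGroup (Fin 2) F) := by
  obtain ⟨k, hk, hq⟩ := exists_pow (F := F) hp
  have hq2 := two_le hp hk hq
  have h := S0243.result (F := F) rfl 2 le_rfl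
  rw [prod_gl, Finset.prod_range_succ', Finset.prod_range_one] at h
  have he : (2 : ℕ) * (2 - 1) / 2 = 1 := by norm_num
  rw [he, pow_one, zero_add, mul_left_comm, ← mul_assoc (Fintype.card F),
    mul_comm _ (Fintype.card F - 1)] at h
  have h' := Nat.eq_of_mul_eq_mul_left (show 0 < Fintype.card F - 1 by omega) h
  have hk2 : 2 ≤ k := by
    rcases k with _ | _ | k
    · exact absurd rfl hk
    · rw [zero_add, pow_one] at hq
      exact absurd hq h2
    · omega
  have h3 : p ^ 2 ∣ Nat.gcd 2 (Fintype.card F - 1) * Nat.card (Matrix.ProjectiveSpecialLinearGroup (Fin 2) F) := by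
    rw [h']
    nth_rw 1 [hq]
    exact (pow_dvd_pow p hk2).mul_right _
  exact (Nat.Coprime.pow_left _ (Nat.Coprime.coprime_dvd_left (Nat.gcd_dvd_right _ _)
    (coprime_sub hp hk hq)).symm).dvd_of_dvd_mul_left h3

theorem psu (hp : p.Prime) [CharP F p] {n q : ℕ} (hF : Fintype.card F = q ^ 2) (hn : 3 ≤ n) :
    p ^ 2 ∣ Nat.card (PSU n F q) := by
  obtain ⟨k, hk, hq⟩ := root_pow hp (by norm_num) (exists_pow (F := F) hp) hF
  have hq2 := two_le hp hk hq
  have h := S0280.result (F := F) hF n (by omega)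
  obtain ⟨m, rfl⟩ := Nat.exists_eq_add_of_le' hn
  rw [show m + 3 = (m + 2) + 1 by ring] at h ⊢
  rw [Finset.prod_range_succ', if_pos (by decide), zero_add, pow_one, mul_left_comm, ← mul_assoc (q ^ _),
    mul_comm _ (q + 1)] at h
  have h' := Nat.eq_of_mul_eq_mul_left (show 0 < q + 1 by omega) h
  exact sq_of hk hq (Nat.Coprime.coprime_dvd_left (Nat.gcd_dvd_right _ _) (coprime_add hp hk hq)) h' (two_le_half m)

theorem psp (hp : p.Prime) [CharP F p] {m : ℕ} (hm : 2 ≤ m) : p ^ 2 ∣ Nat.card (PSp m F) := by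
  obtain ⟨k, hk, hq⟩ := exists_pow (F := F) hp
  have hq2 := two_le hp hk hq
  have h1 := S0245.result (F := F) rfl m
  have h2 := S0246.result (F := F) rfl m (by omega)
  have h3 := Subgroup.card_mul_index (Subgroup.center ↥(Matrix.symplecticGroup (Fin m) F))
  rw [h1, h2] at h3
  exact sq_of hk hq (Nat.Coprime.coprime_dvd_left (Nat.gcd_dvd_right _ _) (coprime_sub hp hk hq)) h3 (by nlinarith only [hm])

theorem pomegaOdd (hp : p.Prime) [CharP F p] {m : ℕ} (hm : 3 ≤ m) (ho : Odd (Fintype.card F)) :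
    p ^ 2 ∣ Nat.card (POmega F (quadFormOdd m F)) := by
  obtain ⟨k, hk, hq⟩ := exists_pow (F := F) hp
  have hq2 := two_le hp hk hq
  have hp2 : p ≠ 2 := by
    rintro rfl
    rw [hq] at ho
    exact (Nat.not_odd_iff_even.2 ((even_two).pow_of_ne_zero hk)) ho
  have h1 := S0292.result (F := F) rfl ho m hm
  refine sq_of hk hq ?_ h1 (by nlinarith only [hm])
  rw [Nat.coprime_primes Nat.prime_two hp]; exact fun h => hp2 h.symm

theorem pomegaPlus (hp : p.Prime) [CharP F p] {m : ℕ} (hm : 4 ≤ m) :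
    p ^ 2 ∣ Nat.card (POmega F (quadFormPlus m F)) := by
  obtain ⟨k, hk, hq⟩ := exists_pow (F := F) hp
  have hq2 := two_le hp hk hq
  have h1 := S0293.result (F := F) rfl m hm
  rw [mul_assoc] at h1
  refine sq_of hk hq (Nat.Coprime.coprime_dvd_left (Nat.gcd_dvd_right _ _)
    (coprime_pow_sub m (by omega) hp hk hq)) h1 ?_
  obtain ⟨j, rfl⟩ := Nat.exists_eq_add_of_le' hm
  have : j + 4 - 1 = j + 3 := by omega
  rw [this]
  nlinarith only []

theorem pomegaMinus (hp : p.Prime) [CharP F p] {m : ℕ} (hm : 4 ≤ m) (a b : F)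
    (hab : ∀ z₁ z₂ : F, z₁ ^ 2 + a * z₁ * z₂ + b * z₂ ^ 2 = 0 → z₁ = 0 ∧ z₂ = 0) :
    p ^ 2 ∣ Nat.card (POmega F (quadFormMinus (m - 1) F a b)) := by
  obtain ⟨k, hk, hq⟩ := exists_pow (F := F) hp
  have hq2 := two_le hp hk hq
  have h1 := S0294.result (F := F) rfl m hm a b hab
  rw [mul_assoc] at h1
  refine sq_of hk hq (Nat.Coprime.coprime_dvd_left (Nat.gcd_dvd_right _ _)
    (coprime_pow_add m (by omega) hp hk hq)) h1 ?_
  obtain ⟨j, rfl⟩ := Nat.exists_eq_add_of_le' hm
  have : j + 4 - 1 = j + 3 := by omega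
  rw [this]
  nlinarith only []

theorem g2 (hp : p.Prime) [CharP F p] : p ^ 2 ∣ Nat.card ↥(Lie.chevG2.group F) := by
  obtain ⟨k, hk, hq⟩ := exists_pow (F := F) hp
  have h1 := S1059.result (F := F) rfl
  rw [mul_assoc, ← one_mul (Nat.card _)] at h1
  exact sq_of hk hq (Nat.coprime_one_left p) h1 (by norm_num)

theorem f4 (hp : p.Prime) [CharP F p] : p ^ 2 ∣ Nat.card ↥(Lie.chevF4.group F) := by
  obtain ⟨k, hk, hq⟩ := exists_pow (F := F) hp
  have h1 := S1062.result (F := F) rfl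
  rw [mul_assoc, mul_assoc, mul_assoc, ← one_mul (Nat.card _)] at h1
  exact sq_of hk hq (Nat.coprime_one_left p) h1 (by norm_num)

theorem e6 (hp : p.Prime) [CharP F p] : p ^ 2 ∣ Nat.card ↥(Lie.chevE6.group F) := by
  obtain ⟨k, hk, hq⟩ := exists_pow (F := F) hp
  have h1 := S1063.result (F := F) rfl
  rw [mul_assoc, mul_assoc, mul_assoc, mul_assoc, mul_assoc] at h1
  exact sq_of hk hq (Nat.Coprime.coprime_dvd_left (Nat.gcd_dvd_right _ _) (coprime_sub hp hk hq)) h1 (by norm_num)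

theorem e7 (hp : p.Prime) [CharP F p] : p ^ 2 ∣ Nat.card ↥(Lie.chevE7.group F) := by
  obtain ⟨k, hk, hq⟩ := exists_pow (F := F) hp
  have h1 := S1064.result (F := F) rfl
  rw [mul_assoc, mul_assoc, mul_assoc, mul_assoc, mul_assoc, mul_assoc] at h1
  exact sq_of hk hq (Nat.Coprime.coprime_dvd_left (Nat.gcd_dvd_right _ _) (coprime_sub hp hk hq)) h1 (by norm_num)

theorem e8 (hp : p.Prime) [CharP F p] : p ^ 2 ∣ Nat.card ↥(Lie.chevE8.group F) := by
  obtain ⟨k, hk, hq⟩ := exists_pow (F := F) hp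
  have h1 := S1065.result (F := F) rfl
  rw [mul_assoc, mul_assoc, mul_assoc, mul_assoc, mul_assoc, mul_assoc, mul_assoc, ← one_mul (Nat.card _)] at h1
  exact sq_of hk hq (Nat.coprime_one_left p) h1 (by norm_num)

theorem twE6 (hp : p.Prime) [CharP F p] {q : ℕ} (hpp : IsPrimePow q) (hF : Fintype.card F = q ^ 2) :
    p ^ 2 ∣ Nat.card ↥(Lie.twistedE6 F q) := by
  obtain ⟨k, hk, hq⟩ := root_pow hp (by norm_num) (exists_pow (F := F) hp) hF
  have h1 := S1066.result hpp hF
  rw [mul_assoc, mul_assoc, mul_assoc, mul_assoc, mul_assoc] at h1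
  exact sq_of hk hq (Nat.Coprime.coprime_dvd_left (Nat.gcd_dvd_right _ _) (coprime_add hp hk hq)) h1 (by norm_num)

theorem twD4 (hp : p.Prime) [CharP F p] {q : ℕ} (hpp : IsPrimePow q) (hF : Fintype.card F = q ^ 3) :
    p ^ 2 ∣ Nat.card ↥(Lie.twistedD4 F q) := by
  obtain ⟨k, hk, hq⟩ := root_pow hp (by norm_num) (exists_pow (F := F) hp) hF
  have h1 := S1067.result hpp hF
  rw [mul_assoc, mul_assoc, ← one_mul (Nat.card _)] at h1
  exact sq_of hk hq (Nat.coprime_one_left p) h1 (by norm_num)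

theorem ree {K : Type} [Field K] [Fintype K] {m : ℕ} (hK : Fintype.card K = 3 ^ (2 * m + 1)) :
    3 ^ 2 ∣ Nat.card ↥(Lie.twistedG2 K (3 ^ m)) := by
  have h1 := S1069.result hK
  rw [mul_assoc, ← one_mul (Nat.card _)] at h1
  exact sq_of (k := 2 * m + 1) (by omega) rfl (Nat.coprime_one_left 3) h1 (by norm_num)

theorem twF4 {K : Type} [Field K] [Fintype K] {m : ℕ} (hK : Fintype.card K = 2 ^ (2 * m + 1)) :
    2 ^ 2 ∣ Nat.card ↥(Lie.twistedF4 K (2 ^ m)) := by
  have h1 := S1068.result hK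
  rw [mul_assoc, mul_assoc, mul_assoc, ← one_mul (Nat.card _)] at h1
  exact sq_of (k := 2 * m + 1) (by omega) rfl (Nat.coprime_one_left 2) h1 (by norm_num)

theorem sz {K : Type} [Field K] [Fintype K] {m : ℕ} (hm : 1 ≤ m) (hK : Fintype.card K = 2 ^ (2 * m + 1)) :
    2 ^ 2 ∣ Nat.card ↥(Lie.Sz K (2 ^ (m + 1))) := by
  have h1 := (S1163.result hm hK).1
  rw [mul_assoc, ← one_mul (Nat.card _)] at h1
  exact sq_of (k := 2 * m + 1) (by omega) rfl (Nat.coprime_one_left 2) h1 (by norm_num)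

end families

/-- **`p ^ 2 ∣ |X|`** for `X` of Lie type in characteristic `p`, unless `X ≅ PSL₂(F)`, `|F| = p`, `p ≥ 5`. -/
theorem lie_sq {X : Type*} [Group X] {p : ℕ} (hp : p.Prime) (h : IsLieTypeChar p X) :
    p ^ 2 ∣ Nat.card X ∨
      ∃ (F : Type) (_ : Field F) (_ : Fintype F), CharP F p ∧ Fintype.card F = p ∧ 5 ≤ p ∧
        Nonempty (X ≃* Matrix.ProjectiveSpecialLinearGroup (Fin 2) F) := by
  rcases h with h | h | h | h | h | h | h | h | ⟨hp', h⟩ | ⟨hp', h⟩ | ⟨hp', h⟩
  · obtain ⟨F, i1, i2, i3, n, h1, h2, ⟨f⟩⟩ := h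
    rcases Nat.lt_or_ge n 3 with h3 | h3
    · have h4 : n = 2 := by omega
      subst h4
      by_cases h5 : Fintype.card F = p
      · right
        have h6 := h2 rfl
        refine ⟨F, i1, i2, i3, h5, ?_, ⟨f⟩⟩
        rw [h5] at h6
        rcases Nat.lt_or_ge p 5 with h7 | h7
        · exfalso
          have : p = 4 := by omega
          rw [this] at hp
          exact absurd hp (by norm_num)
        · exact h7
      · left
        rw [Nat.card_congr f.toEquiv]
        exact psl_two hp h5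
    · left
      rw [Nat.card_congr f.toEquiv]
      exact psl hp h3
  · obtain ⟨F, _, _, _, m, h1, h2, ⟨f⟩⟩ := h
    rw [Nat.card_congr f.toEquiv]
    exact Or.inl (psp hp h1)
  · obtain ⟨F, _, _, _, n, q, h1, h2, h3, ⟨f⟩⟩ := h
    rw [Nat.card_congr f.toEquiv]
    exact Or.inl (psu hp h1 h2)
  · obtain ⟨F, _, _, _, m, h1, h2, ⟨f⟩⟩ := h
    rw [Nat.card_congr f.toEquiv]
    exact Or.inl (pomegaOdd hp h1 h2)
  · obtain ⟨F, i1, i2, i3, m, h1, ⟨f⟩⟩ := h
    rw [Nat.card_congr f.toEquiv]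
    exact Or.inl (pomegaPlus hp h1)
  · obtain ⟨F, i1, i2, i3, m, a, b, h1, h2, ⟨f⟩⟩ := h
    rw [Nat.card_congr f.toEquiv]
    exact Or.inl (pomegaMinus hp h1 a b h2)
  · left
    obtain ⟨F, i1, i2, i3, h⟩ := h
    rcases h with ⟨h1, ⟨f⟩⟩ | ⟨⟨f⟩⟩ | ⟨⟨f⟩⟩ | ⟨⟨f⟩⟩ | ⟨⟨f⟩⟩
    · rw [Nat.card_congr f.toEquiv]; exact g2 hp
    · rw [Nat.card_congr f.toEquiv]; exact f4 hp
    · rw [Nat.card_congr f.toEquiv]; exact e6 hp
    · rw [Nat.card_congr f.toEquiv]; exact e7 hp
    · rw [Nat.card_congr f.toEquiv]; exact e8 hp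
  · left
    obtain ⟨F, i1, i2, i3, q, hq, h⟩ := h
    rcases h with ⟨h1, ⟨f⟩⟩ | ⟨h1, ⟨f⟩⟩
    · rw [Nat.card_congr f.toEquiv]; exact twE6 hp hq h1
    · rw [Nat.card_congr f.toEquiv]; exact twD4 hp hq h1
  · left
    obtain ⟨F, _, _, m, h1, h2, ⟨f⟩⟩ := h
    subst hp'
    rw [Nat.card_congr f.toEquiv]
    exact sz h1 h2
  · left
    obtain ⟨F, _, _, m, h1, h2, ⟨f⟩⟩ := h
    subst hp'
    rw [Nat.card_congr f.toEquiv]
    exact twF4 h2
  · left
    obtain ⟨F, _, _, m, h1, h2, ⟨f⟩⟩ := h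
    subst hp'
    rw [Nat.card_congr f.toEquiv]
    exact ree h2

end Cfsg.Agent.H741.Pd.Sq
end

-- part: H741/Pd/Sieve
section
/-!
# S4977: a sieve on the order (helper741)

`sieve` : `S` finite nonabelian simple, `l` an odd prime with `|S|_l = l`, the primes of `|S|` in the list `L`:
if `chk l p L` then there is an irreducible character of `S` of composite degree prime to `p`.
Only the order of `S` is used (Brauer's theorem for the principal `l`-block).
-/

set_option autoImplicit false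

namespace Cfsg.Agent.H741.Pd

open Cfsg Subgroup
open Cfsg.Agent.SmallSimple.DegreeData

universe u

/-- No prime `≠ p, l` of the list is `±1` modulo `l`. -/
def chkA (l p : ℕ) (L : List ℕ) : Bool :=
  L.all fun r => r == p || r == l || (r % l != 1 && (r + 1) % l != 0)

/-- No prime `r` of the list is the degree of an exceptional character, with `d r = 1` modulo `p`. -/
def chkB (l p : ℕ) (L : List ℕ) : Bool :=
  L.all fun r => (List.range l).all fun e =>
    e == 0 || e == 1 || (l - 1) % e != 0 || (!(r % l == e && r % p == 1) && !((r + e) % l == 0 && (r + 1) % p == 0))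

/-- The check. -/
def chk (l p : ℕ) (L : List ℕ) : Bool := chkA l p L && (l == p || chkB l p L)

theorem chkA_spec {l p : ℕ} {L : List ℕ} (h : chkA l p L = true) {r : ℕ} (hr : r ∈ L) (h1 : r ≠ p) (h2 : r ≠ l) :
    r % l ≠ 1 ∧ (r + 1) % l ≠ 0 := by
  have h3 := List.all_eq_true.1 h r hr
  simp only [Bool.or_eq_true, beq_iff_eq, Bool.and_eq_true, bne_iff_ne] at h3
  rcases h3 with (h3 | h3) | h3
  · exact absurd h3 h1
  · exact absurd h3 h2
  · exact h3

theorem chkB_spec {l p : ℕ} {L : List ℕ} (h : chkB l p L = true) {r : ℕ} (hr : r ∈ L) {e : ℕ} (he : 2 ≤ e)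
    (hel : e < l) (hd : e ∣ l - 1) :
    ¬ (r % l = e ∧ r % p = 1) ∧ ¬ ((r + e) % l = 0 ∧ (r + 1) % p = 0) := by
  have h3 := List.all_eq_true.1 (List.all_eq_true.1 h r hr) e (List.mem_range.2 hel)
  simp only [Bool.or_eq_true, beq_iff_eq, Bool.and_eq_true, bne_iff_ne, Bool.not_eq_true',
    Bool.and_eq_false_iff, beq_eq_false_iff_ne] at h3
  have h4 : (l - 1) % e = 0 := Nat.mod_eq_zero_of_dvd hd
  rcases h3 with ((h3 | h3) | h3) | h3
  · omega
  · omega
  · exact absurd h4 h3
  · refine ⟨fun h5 => ?_, fun h5 => ?_⟩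
    · rcases h3.1 with h6 | h6
      · exact h6 h5.1
      · exact h6 h5.2
    · rcases h3.2 with h6 | h6
      · exact h6 h5.1
      · exact h6 h5.2

theorem card_sylow_eq' {G : Type u} [Group G] [Finite G] {l : ℕ} [hl : Fact l.Prime] (h1 : l ∣ Nat.card G)
    (h2 : ¬ l ^ 2 ∣ Nat.card G) (P : Sylow l G) : Nat.card P = l := by
  have h3 := P.card_eq_multiplicity
  have h4 : (Nat.card G).factorization l = 1 := by
    have h5 : 0 < (Nat.card G).factorization l :=
      hl.1.factorization_pos_of_dvd Nat.card_pos.ne' h1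
    have h6 : ¬ 2 ≤ (Nat.card G).factorization l := fun h =>
      h2 ((hl.1.pow_dvd_iff_le_factorization Nat.card_pos.ne').2 h)
    omega
  rw [h3, h4, pow_one]

/-- **The sieve.** -/
theorem sieve {S : Type u} [Group S] [Finite S] [IsSimpleGroup S] (hna : ∃ a b : S, a * b ≠ b * a)
    {p : ℕ} (hp : p.Prime) {l : ℕ} (hl : l.Prime) (hl2 : l ≠ 2) (hlS : l ∣ Nat.card S)
    (hlS2 : ¬ l ^ 2 ∣ Nat.card S) {L : List ℕ} (hL : ∀ r : ℕ, r.Prime → r ∣ Nat.card S → r ∈ L)
    (h : chk l p L = true) :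
    ∃ χ : IrrCharacter S, ¬ p ∣ charDegree (χ : S → ℂ) ∧ charDegree (χ : S → ℂ) ≠ 1 ∧
      ¬ (charDegree (χ : S → ℂ)).Prime := by
  classical
  by_contra hcon
  push Not at hcon
  have : Fact l.Prime := ⟨hl⟩
  obtain ⟨M, hM⟩ := Blocks.ExistsModular.exists_isPModular hl
  obtain ⟨P⟩ : Nonempty (Sylow l S) := inferInstance
  have hP := card_sylow_eq' hlS hlS2 P
  have hne : Nat.card S ≠ l := by
    intro h1
    obtain ⟨a, b, hab⟩ := hna
    have : IsCyclic S := isCyclic_of_prime_card h1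
    have h2 : IsMulCommutative S := inferInstance
    exact hab (h2.is_comm.comm a b)
  obtain ⟨e, he⟩ : ∃ e, (centralizer (P : Set S)).relIndex (normalizer (P : Set S)) = e := ⟨_, rfl⟩
  have he1 : e ≠ 1 := he ▸ SmallSimple.BurnsideNC.relIndex_ne_one hlS hne P
  have hel : e ∣ l - 1 := he ▸ SmallSimple.BurnsideNC.relIndex_dvd_of_card_eq_prime P hP
  have hl3 : 3 ≤ l := by
    have := hl.two_le
    omega
  have he0 : e ≠ 0 := by
    rintro rfl
    rw [zero_dvd_iff] at hel
    omega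
  have hel' : e < l := by
    have := Nat.le_of_dvd (by omega) hel
    omega
  obtain ⟨t, ht⟩ := hel
  obtain ⟨D⟩ := exists_blockData l hl2 M hM P hP e t he ht.symm
  have hperf := commutator_eq_top hna
  have hdeg1 : ∀ χ : IrrCharacter S, χ ≠ D.one → charDegree (χ : S → ℂ) ≠ 1 := by
    intro χ hχ h1
    apply hχ
    apply Subtype.ext
    rw [D.coe_one]
    exact eq_one_of_degree hperf χ.2 h1
  -- the nonexceptional characters
  have hcl1 : ∀ z ∈ D.degs, (p : ℤ) ∣ z := by
    intro z hz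
    obtain ⟨χ, hχ, rfl⟩ := List.mem_map.1 hz
    have hχ' : χ ∈ D.one :: D.l := List.mem_cons_of_mem _ hχ
    have hne1 : χ ≠ D.one := by
      rintro rfl
      exact (List.nodup_cons.1 D.nodup).1 hχ
    rw [Int.natCast_dvd, D.natAbs_sd hχ']
    by_contra hpχ
    have hr := hcon χ hpχ (hdeg1 χ hne1)
    have h1 := D.sd_modEq hP hχ'
    have h2 := D.natAbs_sd hχ'
    obtain ⟨r, hrdef⟩ : ∃ r, charDegree (χ : S → ℂ) = r := ⟨_, rfl⟩
    rw [hrdef] at hr h2 hpχ
    have hrS : r ∣ Nat.card S := hrdef ▸ Blocks.Knorr.charDegree_dvd χ.2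
    have hrp : r ≠ p := fun h3 => hpχ (by rw [h3])
    have h3 : ((r : ℤ) - 1) % l = 0 ∨ ((r : ℤ) + 1) % l = 0 := by
      rcases Int.natAbs_eq (D.sd χ) with h4 | h4
      · left
        rw [h4, h2] at h1
        exact Int.emod_eq_zero_of_dvd (Int.modEq_iff_dvd.1 h1.symm)
      · right
        rw [h4, h2] at h1
        have := Int.modEq_iff_dvd.1 h1
        exact Int.emod_eq_zero_of_dvd (by
          have h5 : (r : ℤ) + 1 = 1 - -(r : ℤ) := by ring
          rw [h5]; exact this)
    have hrl : r ≠ l := by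
      rintro rfl
      rcases h3 with h3 | h3
      · have h5 := Int.dvd_of_emod_eq_zero h3
        have h6 : (r : ℤ) ∣ 1 := by
          have := (dvd_sub_right (dvd_refl (r : ℤ))).1 h5
          exact this
        have := Int.natCast_dvd.1 h6
        simp at this
        omega
      · have h5 := Int.dvd_of_emod_eq_zero h3
        have h6 : (r : ℤ) ∣ 1 := (dvd_add_right (dvd_refl (r : ℤ))).1 h5
        have := Int.natCast_dvd.1 h6
        simp at this
        omega
    have hA : chkA l p L = true := by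
      rw [chk, Bool.and_eq_true] at h
      exact h.1
    obtain ⟨h4, h5⟩ := chkA_spec hA (hL r hr hrS) hrp hrl
    rcases h3 with h3 | h3
    · apply h4
      have h6 := Int.dvd_of_emod_eq_zero h3
      have h7 : (1 : ℕ) ≡ r [MOD l] := by
        rw [← Int.natCast_modEq_iff]
        exact Int.modEq_iff_dvd.2 (by simpa using h6)
      have h8 : r % l = 1 % l := h7.symm
      rw [h8]
      exact Nat.mod_eq_of_lt (by omega)
    · apply h5
      have h6 := Int.dvd_of_emod_eq_zero h3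
      exact Nat.mod_eq_zero_of_dvd (by exact_mod_cast h6)
  -- there is one
  have hlen := D.length_degs
  by_cases hlp : l = p
  · obtain ⟨z, hz⟩ : ∃ z, z ∈ D.degs := by
      apply List.exists_mem_of_ne_nil
      intro h1
      rw [h1, List.length_nil] at hlen
      omega
    obtain ⟨h1, -, -⟩ := D.degs_spec hP z hz
    have h2 := hcl1 z hz
    rw [← hlp] at h2
    have h3 : (l : ℤ) ∣ 1 := by
      have h4 := Int.modEq_iff_dvd.1 h1
      have := dvd_add h4 h2
      simpa only [_root_.sub_add_cancel] using this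
    have := Int.natCast_dvd.1 h3
    simp at this
    omega
  · have hB : chkB l p L = true := by
      rw [chk, Bool.and_eq_true, Bool.or_eq_true, beq_iff_eq] at h
      exact h.2.resolve_left hlp
    have h1 := D.dexc_eq ht.symm
    have h2 : (p : ℤ) ∣ D.degs.sum := List.dvd_sum hcl1
    have h3 : (p : ℤ) ∣ D.dexc - 1 := by
      rw [← h1]
      simpa using h2
    have h4 := D.dexc_modEq hP ht.symm
    obtain ⟨Θ, hΘ⟩ := D.exists_X ht.symm
    have h5 := D.deg_X Θ hΘ
    have hne1 : Θ ≠ D.one := by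
      rintro rfl
      exact D.notMem_X D.one List.mem_cons_self hΘ
    have h6 := hdeg1 Θ hne1
    have h7 := D.natAbs_dexc
    rw [h5] at h6
    have hpf : ¬ p ∣ D.f := by
      intro h8
      rw [← h7] at h8
      have h9 : (p : ℤ) ∣ D.dexc := Int.natCast_dvd.2 h8
      have h10 : (p : ℤ) ∣ 1 := by
        have := dvd_sub h9 h3
        simpa only [_root_.sub_sub_cancel] using this
      have := Int.natCast_dvd.1 h10
      simp at this
      exact hp.one_lt.ne' this
    have hr : D.f.Prime := by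
      have := hcon Θ
      rw [h5] at this
      exact this hpf h6
    obtain ⟨h8, h9⟩ := chkB_spec hB (hL D.f hr (D.f_dvd ht.symm)) (e := e) (by (clear * - he1 hlen; omega)) hel' ⟨t, ht⟩
    rcases Int.natAbs_eq D.dexc with h10 | h10
    · apply h8
      rw [h10, h7] at h4 h3
      constructor
      · have h11 : D.f ≡ e [MOD l] := by exact_mod_cast h4
        have h12 : D.f % l = e % l := h11
        rw [h12]
        exact Nat.mod_eq_of_lt hel'
      · have h11 : (1 : ℕ) ≡ D.f [MOD p] := by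
          rw [← Int.natCast_modEq_iff]
          exact Int.modEq_iff_dvd.2 (by simpa using h3)
        have h12 : D.f % p = 1 % p := h11.symm
        rw [h12]
        exact Nat.mod_eq_of_lt hp.one_lt
    · apply h9
      rw [h10, h7] at h4 h3
      constructor
      · have h11 := Int.modEq_iff_dvd.1 h4
        have h12 : (l : ℤ) ∣ ((D.f + e : ℕ) : ℤ) := by
          push_cast
          have h13 : (e : ℤ) - -(D.f : ℤ) = D.f + e := by ring
          rwa [h13] at h11
        exact Nat.mod_eq_zero_of_dvd (by exact_mod_cast h12)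
      · have h12 : (p : ℤ) ∣ ((D.f + 1 : ℕ) : ℤ) := by
          push_cast
          have h13 : (D.f : ℤ) + 1 = -(-(D.f : ℤ) - 1) := by ring
          rw [h13]
          exact (dvd_neg).2 h3
        exact Nat.mod_eq_zero_of_dvd (by exact_mod_cast h12)

/-- The primes of a number. -/
theorem mem_of_prime_dvd {n k : ℕ} {L : List ℕ} (hL : ∀ r ∈ L, r.Prime) (hn : n ∣ L.prod ^ k) {r : ℕ}
    (hr : r.Prime) (h : r ∣ n) : r ∈ L := by
  have h1 : r ∣ L.prod := hr.dvd_of_dvd_pow (h.trans hn)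
  obtain ⟨s, hs, hrs⟩ := (Prime.dvd_prod_iff hr.prime).1 h1
  have := (Nat.prime_dvd_prime_iff_eq hr (hL s hs)).1 hrs
  rw [this]
  exact hs

end Cfsg.Agent.H741.Pd
end

-- part: H741/Pd/SporArith
section
/-!
# S4977: the table for the sporadic groups and the Tits group, from their orders (helper741)
-/

set_option autoImplicit false

namespace Cfsg.Agent.H741.Pd

open Cfsg Subgroup
open Cfsg.Agent.H679

universe u

/-- If every automorphism has a `2`-power power which is inner then `p`-automorphisms are inner. -/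
theorem innerP_of_outTwo {S : Type u} [Group S] (h : OutTwo S) {p : ℕ} (hp : p.Prime) (hp2 : p ≠ 2) : InnerP p S := by
  rintro φ ⟨k, hk⟩
  obtain ⟨n, g, hg⟩ := h φ
  have hcop : Nat.Coprime (p ^ k) (2 ^ n) :=
    Nat.Coprime.pow _ _ ((Nat.coprime_primes hp Nat.prime_two).2 hp2)
  have h1 := Nat.gcd_eq_gcd_ab (p ^ k) (2 ^ n)
  rw [Nat.Coprime.gcd_eq_one hcop] at h1
  have h2 : φ = (φ ^ (p ^ k)) ^ (Nat.gcdA (p ^ k) (2 ^ n)) * (φ ^ (2 ^ n)) ^ (Nat.gcdB (p ^ k) (2 ^ n)) := by
    rw [← zpow_natCast φ (p ^ k), ← zpow_natCast φ (2 ^ n), ← zpow_mul, ← zpow_mul, ← zpow_add, ← h1]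
    simp
  refine ⟨g ^ (Nat.gcdB (p ^ k) (2 ^ n)), ?_⟩
  rw [h2, hk, one_zpow, one_mul, ← hg, map_zpow]

/-- The check for one prime. -/
def chk1 (n : ℕ) (L : List ℕ) (x : ℕ × ℕ) : Bool :=
  L.contains x.2 && x.2 != 2 && n % x.2 == 0 && n % (x.2 ^ 2) != 0 && chk x.2 x.1 L

/-- **The table from the order.** `L`: the primes of `n`; `Q`: for each prime `p ≥ 5` of `L` a prime `l`. -/
theorem compS_of_order {S : Type u} [Group S] [Finite S] [IsSimpleGroup S] (hna : ∃ a b : S, a * b ≠ b * a)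
    (hout : OutTwo S) {n k : ℕ} (hS : Nat.card S = n) {L : List ℕ} {Q : List (ℕ × ℕ)} (hLp : ∀ r ∈ L, r.Prime)
    (hn : n ∣ L.prod ^ k) (hQ : Q.all (chk1 n L) = true)
    (hLQ : (L.all fun p => decide (p < 5) || (Q.map Prod.fst).contains p) = true ∧ Q ≠ [] ∧
      (Q.all fun x => L.contains x.1) = true)
    {p : ℕ} (hp : p.Prime) (h5 : 5 ≤ p) : CompS p S := by
  have hL : ∀ r : ℕ, r.Prime → r ∣ Nat.card S → r ∈ L := fun r hr hrS =>
    mem_of_prime_dvd hLp (hS ▸ hn) hr hrS
  have key : ∀ q l : ℕ, (q, l) ∈ Q → ∃ χ : IrrCharacter S, ¬ q ∣ charDegree (χ : S → ℂ) ∧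
      charDegree (χ : S → ℂ) ≠ 1 ∧ ¬ (charDegree (χ : S → ℂ)).Prime := by
    intro q l hql
    have h1 := List.all_eq_true.1 hQ _ hql
    simp only [chk1, Bool.and_eq_true, bne_iff_ne, beq_iff_eq, List.contains_iff_mem] at h1
    obtain ⟨⟨⟨⟨h2, h3⟩, h4⟩, h6⟩, h7⟩ := h1
    have hq : q ∈ L := by
      have := List.all_eq_true.1 hLQ.2.2 _ hql
      simpa using this
    exact sieve hna (hLp q hq) (hLp l h2) h3 (by rw [hS]; exact Nat.dvd_of_mod_eq_zero h4)
      (by rw [hS]; exact fun h => h6 (Nat.mod_eq_zero_of_dvd h)) hL h7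
  refine compS_of_inner (innerP_of_outTwo hout hp (by omega)) ?_
  by_cases hpL : p ∈ L
  · have h1 := List.all_eq_true.1 hLQ.1 p hpL
    simp only [Bool.or_eq_true, decide_eq_true_eq, List.contains_iff_mem, List.mem_map, Prod.exists] at h1
    rcases h1 with h1 | ⟨q, l, h1, h2⟩
    · omega
    · rw [← h2]
      exact key q l h1
  · obtain ⟨⟨q, l⟩, hx⟩ := List.exists_mem_of_ne_nil _ hLQ.2.1
    obtain ⟨χ, -, h2, h3⟩ := key q l hx
    refine ⟨χ, fun h4 => hpL (hL p hp (h4.trans (Blocks.Knorr.charDegree_dvd χ.2))), h2, h3⟩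

theorem m11 {S : Type u} [Group S] [Finite S] [IsSimpleGroup S] (hna : ∃ a b : S, a * b ≠ b * a)
    (hout : OutTwo S) (hS : Nat.card S = 7920) {p : ℕ} (hp : p.Prime) (h5 : 5 ≤ p) : CompS p S :=
  compS_of_order (n := 7920) (k := 4) (L := [2, 3, 5, 11]) (Q := [(5, 11), (11, 5)])
    hna hout hS (by intro r hr; fin_cases hr <;> norm_num) (by norm_num) (by decide +kernel) (by decide) hp h5

theorem m12 {S : Type u} [Group S] [Finite S] [IsSimpleGroup S] (hna : ∃ a b : S, a * b ≠ b * a)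
    (hout : OutTwo S) (hS : Nat.card S = 95040) {p : ℕ} (hp : p.Prime) (h5 : 5 ≤ p) : CompS p S :=
  compS_of_order (n := 95040) (k := 6) (L := [2, 3, 5, 11]) (Q := [(5, 11), (11, 5)])
    hna hout hS (by intro r hr; fin_cases hr <;> norm_num) (by norm_num) (by decide +kernel) (by decide) hp h5

theorem j1 {S : Type u} [Group S] [Finite S] [IsSimpleGroup S] (hna : ∃ a b : S, a * b ≠ b * a)
    (hout : OutTwo S) (hS : Nat.card S = 175560) {p : ℕ} (hp : p.Prime) (h5 : 5 ≤ p) : CompS p S :=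
  compS_of_order (n := 175560) (k := 3) (L := [2, 3, 5, 7, 11, 19]) (Q := [(5, 11), (7, 7), (11, 7), (19, 7)])
    hna hout hS (by intro r hr; fin_cases hr <;> norm_num) (by norm_num) (by decide +kernel) (by decide) hp h5

theorem m22 {S : Type u} [Group S] [Finite S] [IsSimpleGroup S] (hna : ∃ a b : S, a * b ≠ b * a)
    (hout : OutTwo S) (hS : Nat.card S = 443520) {p : ℕ} (hp : p.Prime) (h5 : 5 ≤ p) : CompS p S :=
  compS_of_order (n := 443520) (k := 7) (L := [2, 3, 5, 7, 11]) (Q := [(5, 7), (7, 7), (11, 5)])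
    hna hout hS (by intro r hr; fin_cases hr <;> norm_num) (by norm_num) (by decide +kernel) (by decide) hp h5

theorem j2 {S : Type u} [Group S] [Finite S] [IsSimpleGroup S] (hna : ∃ a b : S, a * b ≠ b * a)
    (hout : OutTwo S) (hS : Nat.card S = 604800) {p : ℕ} (hp : p.Prime) (h5 : 5 ≤ p) : CompS p S :=
  compS_of_order (n := 604800) (k := 7) (L := [2, 3, 5, 7]) (Q := [(5, 7), (7, 7)])
    hna hout hS (by intro r hr; fin_cases hr <;> norm_num) (by norm_num) (by decide +kernel) (by decide) hp h5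

theorem m23 {S : Type u} [Group S] [Finite S] [IsSimpleGroup S] (hna : ∃ a b : S, a * b ≠ b * a)
    (hout : OutTwo S) (hS : Nat.card S = 10200960) {p : ℕ} (hp : p.Prime) (h5 : 5 ≤ p) : CompS p S :=
  compS_of_order (n := 10200960) (k := 7) (L := [2, 3, 5, 7, 11, 23]) (Q := [(5, 7), (7, 7), (11, 5), (23, 7)])
    hna hout hS (by intro r hr; fin_cases hr <;> norm_num) (by norm_num) (by decide +kernel) (by decide) hp h5

theorem hs {S : Type u} [Group S] [Finite S] [IsSimpleGroup S] (hna : ∃ a b : S, a * b ≠ b * a)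
    (hout : OutTwo S) (hS : Nat.card S = 44352000) {p : ℕ} (hp : p.Prime) (h5 : 5 ≤ p) : CompS p S :=
  compS_of_order (n := 44352000) (k := 9) (L := [2, 3, 5, 7, 11]) (Q := [(5, 7), (7, 7), (11, 7)])
    hna hout hS (by intro r hr; fin_cases hr <;> norm_num) (by norm_num) (by decide +kernel) (by decide) hp h5

theorem j3 {S : Type u} [Group S] [Finite S] [IsSimpleGroup S] (hna : ∃ a b : S, a * b ≠ b * a)
    (hout : OutTwo S) (hS : Nat.card S = 50232960) {p : ℕ} (hp : p.Prime) (h5 : 5 ≤ p) : CompS p S :=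
  compS_of_order (n := 50232960) (k := 7) (L := [2, 3, 5, 17, 19]) (Q := [(5, 17), (17, 17), (19, 5)])
    hna hout hS (by intro r hr; fin_cases hr <;> norm_num) (by norm_num) (by decide +kernel) (by decide) hp h5

theorem m24 {S : Type u} [Group S] [Finite S] [IsSimpleGroup S] (hna : ∃ a b : S, a * b ≠ b * a)
    (hout : OutTwo S) (hS : Nat.card S = 244823040) {p : ℕ} (hp : p.Prime) (h5 : 5 ≤ p) : CompS p S :=
  compS_of_order (n := 244823040) (k := 10) (L := [2, 3, 5, 7, 11, 23]) (Q := [(5, 7), (7, 7), (11, 5), (23, 7)])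
    hna hout hS (by intro r hr; fin_cases hr <;> norm_num) (by norm_num) (by decide +kernel) (by decide) hp h5

theorem mcl {S : Type u} [Group S] [Finite S] [IsSimpleGroup S] (hna : ∃ a b : S, a * b ≠ b * a)
    (hout : OutTwo S) (hS : Nat.card S = 898128000) {p : ℕ} (hp : p.Prime) (h5 : 5 ≤ p) : CompS p S :=
  compS_of_order (n := 898128000) (k := 7) (L := [2, 3, 5, 7, 11]) (Q := [(5, 7), (7, 7), (11, 7)])
    hna hout hS (by intro r hr; fin_cases hr <;> norm_num) (by norm_num) (by decide +kernel) (by decide) hp h5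

theorem he {S : Type u} [Group S] [Finite S] [IsSimpleGroup S] (hna : ∃ a b : S, a * b ≠ b * a)
    (hout : OutTwo S) (hS : Nat.card S = 4030387200) {p : ℕ} (hp : p.Prime) (h5 : 5 ≤ p) : CompS p S :=
  compS_of_order (n := 4030387200) (k := 10) (L := [2, 3, 5, 7, 17]) (Q := [(5, 17), (7, 17), (17, 17)])
    hna hout hS (by intro r hr; fin_cases hr <;> norm_num) (by norm_num) (by decide +kernel) (by decide) hp h5

theorem ru {S : Type u} [Group S] [Finite S] [IsSimpleGroup S] (hna : ∃ a b : S, a * b ≠ b * a)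
    (hout : OutTwo S) (hS : Nat.card S = 145926144000) {p : ℕ} (hp : p.Prime) (h5 : 5 ≤ p) : CompS p S :=
  compS_of_order (n := 145926144000) (k := 14) (L := [2, 3, 5, 7, 13, 29]) (Q := [(5, 13), (7, 29), (13, 13), (29, 13)])
    hna hout hS (by intro r hr; fin_cases hr <;> norm_num) (by norm_num) (by decide +kernel) (by decide) hp h5

theorem suz {S : Type u} [Group S] [Finite S] [IsSimpleGroup S] (hna : ∃ a b : S, a * b ≠ b * a)
    (hout : OutTwo S) (hS : Nat.card S = 448345497600) {p : ℕ} (hp : p.Prime) (h5 : 5 ≤ p) : CompS p S :=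
  compS_of_order (n := 448345497600) (k := 13) (L := [2, 3, 5, 7, 11, 13]) (Q := [(5, 11), (7, 11), (11, 11), (13, 7)])
    hna hout hS (by intro r hr; fin_cases hr <;> norm_num) (by norm_num) (by decide +kernel) (by decide) hp h5

theorem on {S : Type u} [Group S] [Finite S] [IsSimpleGroup S] (hna : ∃ a b : S, a * b ≠ b * a)
    (hout : OutTwo S) (hS : Nat.card S = 460815505920) {p : ℕ} (hp : p.Prime) (h5 : 5 ≤ p) : CompS p S :=
  compS_of_order (n := 460815505920) (k := 9) (L := [2, 3, 5, 7, 11, 19, 31]) (Q := [(5, 11), (7, 11), (11, 11), (19, 11), (31, 11)])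
    hna hout hS (by intro r hr; fin_cases hr <;> norm_num) (by norm_num) (by decide +kernel) (by decide) hp h5

theorem co3 {S : Type u} [Group S] [Finite S] [IsSimpleGroup S] (hna : ∃ a b : S, a * b ≠ b * a)
    (hout : OutTwo S) (hS : Nat.card S = 495766656000) {p : ℕ} (hp : p.Prime) (h5 : 5 ≤ p) : CompS p S :=
  compS_of_order (n := 495766656000) (k := 10) (L := [2, 3, 5, 7, 11, 23]) (Q := [(5, 7), (7, 7), (11, 23), (23, 7)])
    hna hout hS (by intro r hr; fin_cases hr <;> norm_num) (by norm_num) (by decide +kernel) (by decide) hp h5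

theorem co2 {S : Type u} [Group S] [Finite S] [IsSimpleGroup S] (hna : ∃ a b : S, a * b ≠ b * a)
    (hout : OutTwo S) (hS : Nat.card S = 42305421312000) {p : ℕ} (hp : p.Prime) (h5 : 5 ≤ p) : CompS p S :=
  compS_of_order (n := 42305421312000) (k := 18) (L := [2, 3, 5, 7, 11, 23]) (Q := [(5, 7), (7, 7), (11, 23), (23, 7)])
    hna hout hS (by intro r hr; fin_cases hr <;> norm_num) (by norm_num) (by decide +kernel) (by decide) hp h5

theorem fi22 {S : Type u} [Group S] [Finite S] [IsSimpleGroup S] (hna : ∃ a b : S, a * b ≠ b * a)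
    (hout : OutTwo S) (hS : Nat.card S = 64561751654400) {p : ℕ} (hp : p.Prime) (h5 : 5 ≤ p) : CompS p S :=
  compS_of_order (n := 64561751654400) (k := 17) (L := [2, 3, 5, 7, 11, 13]) (Q := [(5, 11), (7, 11), (11, 11), (13, 7)])
    hna hout hS (by intro r hr; fin_cases hr <;> norm_num) (by norm_num) (by decide +kernel) (by decide) hp h5

theorem hn {S : Type u} [Group S] [Finite S] [IsSimpleGroup S] (hna : ∃ a b : S, a * b ≠ b * a)
    (hout : OutTwo S) (hS : Nat.card S = 273030912000000) {p : ℕ} (hp : p.Prime) (h5 : 5 ≤ p) : CompS p S :=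
  compS_of_order (n := 273030912000000) (k := 14) (L := [2, 3, 5, 7, 11, 19]) (Q := [(5, 11), (7, 7), (11, 7), (19, 7)])
    hna hout hS (by intro r hr; fin_cases hr <;> norm_num) (by norm_num) (by decide +kernel) (by decide) hp h5

theorem ly {S : Type u} [Group S] [Finite S] [IsSimpleGroup S] (hna : ∃ a b : S, a * b ≠ b * a)
    (hout : OutTwo S) (hS : Nat.card S = 51765179004000000) {p : ℕ} (hp : p.Prime) (h5 : 5 ≤ p) : CompS p S :=
  compS_of_order (n := 51765179004000000) (k := 8) (L := [2, 3, 5, 7, 11, 31, 37, 67]) (Q := [(5, 31), (7, 7), (11, 7), (31, 7), (37, 7), (67, 7)])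
    hna hout hS (by intro r hr; fin_cases hr <;> norm_num) (by norm_num) (by decide +kernel) (by decide) hp h5

theorem th {S : Type u} [Group S] [Finite S] [IsSimpleGroup S] (hna : ∃ a b : S, a * b ≠ b * a)
    (hout : OutTwo S) (hS : Nat.card S = 90745943887872000) {p : ℕ} (hp : p.Prime) (h5 : 5 ≤ p) : CompS p S :=
  compS_of_order (n := 90745943887872000) (k := 15) (L := [2, 3, 5, 7, 13, 19, 31]) (Q := [(5, 13), (7, 13), (13, 13), (19, 13), (31, 13)])
    hna hout hS (by intro r hr; fin_cases hr <;> norm_num) (by norm_num) (by decide +kernel) (by decide) hp h5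

theorem fi23 {S : Type u} [Group S] [Finite S] [IsSimpleGroup S] (hna : ∃ a b : S, a * b ≠ b * a)
    (hout : OutTwo S) (hS : Nat.card S = 4089470473293004800) {p : ℕ} (hp : p.Prime) (h5 : 5 ≤ p) : CompS p S :=
  compS_of_order (n := 4089470473293004800) (k := 18) (L := [2, 3, 5, 7, 11, 13, 17, 23]) (Q := [(5, 13), (7, 13), (11, 13), (13, 7), (17, 13), (23, 11)])
    hna hout hS (by intro r hr; fin_cases hr <;> norm_num) (by norm_num) (by decide +kernel) (by decide) hp h5

theorem co1 {S : Type u} [Group S] [Finite S] [IsSimpleGroup S] (hna : ∃ a b : S, a * b ≠ b * a)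
    (hout : OutTwo S) (hS : Nat.card S = 4157776806543360000) {p : ℕ} (hp : p.Prime) (h5 : 5 ≤ p) : CompS p S :=
  compS_of_order (n := 4157776806543360000) (k := 21) (L := [2, 3, 5, 7, 11, 13, 23]) (Q := [(5, 13), (7, 13), (11, 13), (13, 13), (23, 11)])
    hna hout hS (by intro r hr; fin_cases hr <;> norm_num) (by norm_num) (by decide +kernel) (by decide) hp h5

theorem j4 {S : Type u} [Group S] [Finite S] [IsSimpleGroup S] (hna : ∃ a b : S, a * b ≠ b * a)
    (hout : OutTwo S) (hS : Nat.card S = 86775571046077562880) {p : ℕ} (hp : p.Prime) (h5 : 5 ≤ p) : CompS p S :=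
  compS_of_order (n := 86775571046077562880) (k := 21) (L := [2, 3, 5, 7, 11, 23, 29, 31, 37, 43]) (Q := [(5, 37), (7, 23), (11, 23), (23, 23), (29, 23), (31, 23), (37, 23), (43, 23)])
    hna hout hS (by intro r hr; fin_cases hr <;> norm_num) (by norm_num) (by decide +kernel) (by decide) hp h5

theorem fi24 {S : Type u} [Group S] [Finite S] [IsSimpleGroup S] (hna : ∃ a b : S, a * b ≠ b * a)
    (hout : OutTwo S) (hS : Nat.card S = 1255205709190661721292800) {p : ℕ} (hp : p.Prime) (h5 : 5 ≤ p) : CompS p S :=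
  compS_of_order (n := 1255205709190661721292800) (k := 21) (L := [2, 3, 5, 7, 11, 13, 17, 23, 29]) (Q := [(5, 13), (7, 23), (11, 13), (13, 13), (17, 13), (23, 11), (29, 13)])
    hna hout hS (by intro r hr; fin_cases hr <;> norm_num) (by norm_num) (by decide +kernel) (by decide) hp h5

theorem b {S : Type u} [Group S] [Finite S] [IsSimpleGroup S] (hna : ∃ a b : S, a * b ≠ b * a)
    (hout : OutTwo S) (hS : Nat.card S = 4154781481226426191177580544000000) {p : ℕ} (hp : p.Prime) (h5 : 5 ≤ p) : CompS p S :=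
  compS_of_order (n := 4154781481226426191177580544000000) (k := 41) (L := [2, 3, 5, 7, 11, 13, 17, 19, 23, 31, 47]) (Q := [(5, 13), (7, 13), (11, 13), (13, 13), (17, 13), (19, 13), (23, 11), (31, 13), (47, 13)])
    hna hout hS (by intro r hr; fin_cases hr <;> norm_num) (by norm_num) (by decide +kernel) (by decide) hp h5

theorem m {S : Type u} [Group S] [Finite S] [IsSimpleGroup S] (hna : ∃ a b : S, a * b ≠ b * a)
    (hout : OutTwo S) (hS : Nat.card S = 808017424794512875886459904961710757005754368000000000) {p : ℕ} (hp : p.Prime) (h5 : 5 ≤ p) : CompS p S :=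
  compS_of_order (n := 808017424794512875886459904961710757005754368000000000) (k := 46) (L := [2, 3, 5, 7, 11, 13, 17, 19, 23, 29, 31, 41, 47, 59, 71]) (Q := [(5, 17), (7, 31), (11, 17), (13, 17), (17, 17), (19, 17), (23, 17), (29, 31), (31, 17), (41, 17), (47, 17), (59, 17), (71, 17)])
    hna hout hS (by intro r hr; fin_cases hr <;> norm_num) (by norm_num) (by decide +kernel) (by decide) hp h5

theorem tits {S : Type u} [Group S] [Finite S] [IsSimpleGroup S] (hna : ∃ a b : S, a * b ≠ b * a)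
    (hout : OutTwo S) (hS : Nat.card S = 17971200) {p : ℕ} (hp : p.Prime) (h5 : 5 ≤ p) : CompS p S :=
  compS_of_order (n := 17971200) (k := 11) (L := [2, 3, 5, 13]) (Q := [(5, 13), (13, 13)])
    hna hout hS (by intro r hr; fin_cases hr <;> norm_num) (by norm_num) (by decide +kernel) (by decide) hp h5

end Cfsg.Agent.H741.Pd
end

private theorem dce_61baf34bb4a3 : _root_.True := by
  try have : _root_.True := by simp only [_root_.Cfsg.Agent.H741.Pd.chk.eq_1]
  try have : _root_.True := by simp only [_root_.Cfsg.Agent.H741.Pd.chk1.eq_1]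
  exact _root_.True.intro
end

-- part: H741/Pd/Cross
section
prune_inst 0x6000344528a20000000400104200028511000100006000013806060208065302004089004e001d020846b2800040004000100040400000000a00000000000000002ac60042b50c08200000002007180c00000000000000000000800000041000008000000
set_option linter.all false
open scoped Cfsg.Agent.FastGrp

/-!
# S4977: alternating groups, and groups of Lie type in characteristic `≠ p` (helper741)
-/

set_option autoImplicit false

namespace Cfsg.Agent.H741.Pd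

open Cfsg Subgroup
open Cfsg.Agent.H671.H5 (ExtAut)

universe u

/-- A character which extends to the automorphism group is invariant. -/
theorem extAut_apply {S : Type u} [Group S] {θ : IrrCharacter S} (h : ExtAut θ) (φ : MulAut S) (s : S) :
    (θ : S → ℂ) (φ s) = (θ : S → ℂ) s := by
  obtain ⟨ψ, hψ⟩ := h
  rw [← hψ, ← hψ]
  have h1 : MulAut.conj (φ s) = φ * MulAut.conj s * φ⁻¹ := by
    ext x
    simp [MulAut.conj_apply]
  rw [h1]
  exact Characters.Core.isIrr_isClassFunction ψ.2 _ _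

theorem compS_of_extAut {p : ℕ} {S : Type u} [Group S] (θ : IrrCharacter S) (h : ExtAut θ)
    (h1 : ¬ p ∣ charDegree (θ : S → ℂ)) (h2 : charDegree (θ : S → ℂ) ≠ 1) (h3 : ¬ (charDegree (θ : S → ℂ)).Prime) :
    CompS p S :=
  fun _ _ => ⟨θ, h1, h2, h3, fun φ _ s => extAut_apply h φ s⟩

/-- **Lie type in characteristic `r ≠ p`**, `r ^ 2` dividing the order. -/
theorem compS_cross {p r : ℕ} (hp : p.Prime) (hr : r.Prime) (hpr : p ≠ r) {S : Type u} [Group S] [Finite S]
    [IsSimpleGroup S] (hna : ¬ IsMulCommutative S) (h : IsLieTypeChar r S) (h2 : r ^ 2 ∣ Nat.card S) : CompS p S := by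
  have : Fact r.Prime := ⟨hr⟩
  obtain ⟨θ, h3, h4⟩ := H761.LieExt.lie_ext hna h
  have h5 : 2 ≤ (Nat.card S).factorization r := (hr.pow_dvd_iff_le_factorization Nat.card_pos.ne').1 h2
  refine compS_of_extAut θ h4 ?_ ?_ ?_
  · rw [h3]
    intro h6
    exact hpr ((Nat.prime_dvd_prime_iff_eq hp hr).1 (hp.dvd_of_dvd_pow h6))
  · rw [h3]
    exact (Nat.one_lt_pow (by omega) hr.one_lt).ne'
  · rw [h3]
    exact Nat.Prime.not_prime_pow h5

/-- **Alternating groups of degree at least seven.** -/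
theorem compS_alt_seven {p : ℕ} (hp : p.Prime) (h5 : 5 ≤ p) {n : ℕ} (hn : 7 ≤ n) :
    CompS p (alternatingGroup (Fin n)) := by
  obtain ⟨α, β, h1, h2, h3, h4⟩ := H875.AltCop.alt_cop hn
  obtain ⟨m, rfl⟩ := Nat.exists_eq_add_of_le' hn
  have e1 : m + 7 - 3 = m + 4 := by omega
  have e2 : m + 7 - 1 = m + 6 := by omega
  have e3 : m + 7 - 2 = m + 5 := by omega
  rw [e1] at h1
  rw [e2, e3] at h2
  have hev1 : 2 ∣ (m + 7) * (m + 4) := by
    rcases Nat.even_or_odd m with h | h
    · exact (Even.mul_left (h.add (by decide)) _).two_dvd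
    · exact (Even.mul_right (h.add_odd (by decide)) _).two_dvd
  have hev2 : 2 ∣ (m + 6) * (m + 5) := by
    rcases Nat.even_or_odd m with h | h
    · exact (Even.mul_right (h.add (by decide)) _).two_dvd
    · exact (Even.mul_left (h.add_odd (by decide)) _).two_dvd
  obtain ⟨a, ha⟩ := hev1
  obtain ⟨b, hb⟩ := hev2
  have ha' : (m + 7) * (m + 4) / 2 = a := by omega
  have hb' : (m + 6) * (m + 5) / 2 = b := by omega
  rw [ha'] at h1
  rw [hb'] at h2
  have hab : b = a + 1 := by nlinarith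
  -- not prime
  have hnp : ∀ x y c : ℕ, 3 ≤ x → 3 ≤ y → x * y = 2 * c → ¬ c.Prime := by
    intro x y c hx hy hxy hc
    have hcx : c ∣ x * y := hxy ▸ Dvd.intro_left 2 rfl
    rcases hc.dvd_mul.1 hcx with ⟨k, hk⟩ | ⟨k, hk⟩
    · rw [hk] at hxy
      have h6 : k * y = 2 := by
        have h7 : c * (k * y) = c * 2 := by rw [← mul_assoc, hxy, mul_comm]
        exact Nat.eq_of_mul_eq_mul_left hc.pos h7
      have h7 : y ≤ 2 := Nat.le_of_dvd (by norm_num) ⟨k, by rw [← h6, mul_comm]⟩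
      omega
    · rw [hk] at hxy
      have h6 : x * k = 2 := by
        have h7 : c * (x * k) = c * 2 := by
          rw [← mul_assoc, mul_comm c x, mul_assoc, hxy, mul_comm]
        exact Nat.eq_of_mul_eq_mul_left hc.pos h7
      have h7 : x ≤ 2 := Nat.le_of_dvd (by norm_num) ⟨k, h6.symm⟩
      omega
  by_cases hpa : p ∣ a
  · have hpb : ¬ p ∣ b := by
      intro h
      rw [hab] at h
      have := (Nat.dvd_add_right hpa).1 h
      exact hp.one_lt.ne' (Nat.dvd_one.1 this)
    refine compS_of_extAut β h4 (by rwa [h2]) ?_ ?_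
    · rw [h2]
      nlinarith
    · rw [h2]
      exact hnp (m + 6) (m + 5) b (by omega) (by omega) hb
  · refine compS_of_extAut α h3 (by rwa [h1]) ?_ ?_
    · rw [h1]
      nlinarith
    · rw [h1]
      exact hnp (m + 7) (m + 4) a (by omega) (by omega) ha

end Cfsg.Agent.H741.Pd
end

-- part: H741/Pd/Small
section
prune_inst 0x800000000000008000000
set_option linter.all false
open scoped Cfsg.Agent.FastGrp

/-!
# S4977: `A₅`, `A₆`, and `PSL₂(l)` for primes `l ≠ p` (helper741)
-/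

set_option autoImplicit false

namespace Cfsg.Agent.H741.Pd

open Cfsg Subgroup

universe u

theorem card_alt_five : Nat.card (alternatingGroup (Fin 5)) = 60 := by
  have h := nat_card_alternatingGroup (α := Fin 5)
  rw [h, Nat.card_eq_fintype_card, Fintype.card_fin]
  decide

theorem card_alt_six : Nat.card (alternatingGroup (Fin 6)) = 360 := by
  have h := nat_card_alternatingGroup (α := Fin 6)
  rw [h, Nat.card_eq_fintype_card, Fintype.card_fin]
  decide

theorem compS_alt_five {p : ℕ} (hp : p.Prime) (h5 : 5 ≤ p) : CompS p (alternatingGroup (Fin 5)) := by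
  have h1 : IsSimpleGroup (alternatingGroup (Fin 5)) := alternatingGroup.isSimpleGroup_five
  refine compS_cross hp Nat.prime_two (by omega) (CpAut.not_comm_alt le_rfl)
    (Omega.KFacts.charTwo_alt_five (MulEquiv.refl _)) ?_
  rw [card_alt_five]
  norm_num

theorem compS_alt_six {p : ℕ} (hp : p.Prime) (h5 : 5 ≤ p) : CompS p (alternatingGroup (Fin 6)) := by
  have h1 : IsSimpleGroup (alternatingGroup (Fin 6)) := alternatingGroup.isSimpleGroup (by simp)
  refine compS_cross hp Nat.prime_three (by omega) (CpAut.not_comm_alt (by norm_num))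
    H679.isLie_alt_six ?_
  rw [card_alt_six]
  norm_num

/-- Alternating groups. -/
theorem compS_alt {p : ℕ} (hp : p.Prime) (h5 : 5 ≤ p) {n : ℕ} (hn : 5 ≤ n) :
    CompS p (alternatingGroup (Fin n)) := by
  rcases Nat.lt_or_ge n 7 with h | h
  · obtain rfl | rfl : n = 5 ∨ n = 6 := by omega
    · exact compS_alt_five hp h5
    · exact compS_alt_six hp h5
  · exact compS_alt_seven hp h5 h

/-- `Out (PSL₂(l))` has order dividing two. -/
theorem outTwo_psl {l : ℕ} [hl : Fact l.Prime] (h4 : 4 ≤ l) {F : Type u} [Field F] [Fintype F]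
    (hF : Fintype.card F = l) : H679.OutTwo (Matrix.ProjectiveSpecialLinearGroup (Fin 2) F) := by
  obtain ⟨φ, -, -, h3⟩ := S2602.result (F := F) (p := l) (f := 1) le_rfl (by rw [hF, pow_one]) (by rwa [pow_one])
  have hk : φ.ker = ⊤ := by
    rw [eq_top_iff]
    intro x _
    rw [MonoidHom.mem_ker]
    have : Subsingleton (Multiplicative (ZMod 1)) := inferInstanceAs (Subsingleton (ZMod 1))
    exact Subsingleton.elim _ _
  rw [hk, Nat.card_congr Subgroup.topEquiv.toEquiv] at h3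
  apply H679.OutTwo.of_pow
  intro x
  have h4 : (QuotientGroup.mk x : Out (Matrix.ProjectiveSpecialLinearGroup (Fin 2) F)) ^ 2 = 1 := by
    have h5 := pow_card_eq_one' (x := (QuotientGroup.mk x : Out (Matrix.ProjectiveSpecialLinearGroup (Fin 2) F)))
    rw [h3] at h5
    exact orderOf_dvd_iff_pow_eq_one.1 ((orderOf_dvd_of_pow_eq_one h5).trans (Nat.gcd_dvd_left _ _))
  rw [← QuotientGroup.mk_pow, QuotientGroup.eq_one_iff] at h4
  exact h4

/-- `PSL₂(l)`, `l ≠ p` prime. -/
theorem compS_psl_prime {p l : ℕ} (hp : p.Prime) (h5 : 5 ≤ p) (hl : l.Prime) (hl5 : 5 ≤ l)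
    {F : Type} [Field F] [Fintype F] (hF : Fintype.card F = l) :
    p ≠ l → CompS p (Matrix.ProjectiveSpecialLinearGroup (Fin 2) F) := by
  intro hpl
  rcases Nat.lt_or_ge l 7 with h7 | h7
  · have h6 : l ≠ 6 := by
      rintro rfl
      exact absurd hl (by norm_num)
    obtain ⟨e⟩ := S0253.result (F := F) (by omega)
    exact CompS.of_equiv e (compS_alt_five hp h5)
  · have : Fact l.Prime := ⟨hl⟩
    refine compS_of_inner (innerP_of_outTwo (outTwo_psl (by omega) hF) hp (by omega)) ?_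
    obtain ⟨h1, h2⟩ := H464.PslDeg.psl_degrees (F := F) (by omega)
    obtain ⟨χ, hχ, hn⟩ := H681.DegBasic.mem_charDegrees.1 h1
    obtain ⟨ψ, hψ, hm⟩ := H681.DegBasic.mem_charDegrees.1 h2
    rw [hF] at hn hm
    have hodd : ¬ 2 ∣ l := fun h => by
      have := (Nat.prime_dvd_prime_iff_eq Nat.prime_two hl).1 h
      omega
    have hdχ : charDegree χ = l + 1 := H687.charDegree_of_eq (by rw [hn])
    have hdψ : charDegree ψ = l - 1 := H687.charDegree_of_eq (by rw [hm])
    have h2χ : ¬ (l + 1).Prime := fun h => by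
      have := (Nat.prime_dvd_prime_iff_eq Nat.prime_two h).1 (by omega)
      omega
    have h2ψ : ¬ (l - 1).Prime := fun h => by
      have := (Nat.prime_dvd_prime_iff_eq Nat.prime_two h).1 (by omega)
      omega
    by_cases h8 : p ∣ l + 1
    · refine ⟨⟨ψ, hψ⟩, ?_, ?_, ?_⟩
      · change ¬ p ∣ charDegree ψ
        rw [hdψ]
        intro h9
        have h10 := (Nat.dvd_sub h8 h9)
        have h11 := Nat.le_of_dvd (by omega) h10
        omega
      · change charDegree ψ ≠ 1
        omega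
      · change ¬ (charDegree ψ).Prime
        rwa [hdψ]
    · refine ⟨⟨χ, hχ⟩, ?_, ?_, ?_⟩
      · change ¬ p ∣ charDegree χ
        rwa [hdχ]
      · change charDegree χ ≠ 1
        omega
      · change ¬ (charDegree χ).Prime
        rwa [hdχ]

end Cfsg.Agent.H741.Pd
end

-- part: H741/Pd/SporTab
section
set_option linter.all false

/-!
# S4977: the table for the sporadic groups and the Tits group (helper741)
-/

set_option autoImplicit false

namespace Cfsg.Agent.H741.Pd

open Cfsg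

universe u

/-- **The sporadic groups.** -/
theorem compS_sporadic {S : Type u} [Group S] [Finite S] [IsSimpleGroup S] (hna : ∃ a b : S, a * b ≠ b * a)
    (h : IsSporadicGroup S) {p : ℕ} (hp : p.Prime) (h5 : 5 ≤ p) : CompS p S := by
  rcases h with h | h | h | h | h | h | h | h | h | h | h | h | h | h | h | h | h | h | h | h | h | h | h | h | h | h
  · exact m11 hna (H679.SporOut.m11 h) (NotCT.Orders.m11 h) hp h5
  · exact m12 hna (H679.SporOut.m12 h) (NotCT.Orders.m12 h) hp h5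
  · exact m22 hna (H679.SporOut.m22 h) (NotCT.Orders.m22 h) hp h5
  · exact m23 hna (H679.SporOut.m23 h) (NotCT.Orders.m23 h) hp h5
  · exact m24 hna (H679.SporOut.m24 h) (NotCT.Orders.m24 h) hp h5
  · exact j1 hna (H679.SporOut.j1 h) (NotCT.Orders.j1 h) hp h5
  · exact j2 hna (H679.SporOut.j2 h) (NotCT.Orders.j2 h) hp h5
  · exact j3 hna (H679.SporOut.j3 h) (NotCT.Orders.j3 h) hp h5
  · exact j4 hna (H679.SporOut.j4 h) (NotCT.Orders.j4 h) hp h5
  · exact co1 hna (H679.SporOut.co1 h) (NotCT.Orders.co1 h) hp h5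
  · exact co2 hna (H679.SporOut.co2 h) (NotCT.Orders.co2 h) hp h5
  · exact co3 hna (H679.SporOut.co3 h) (NotCT.Orders.co3 h) hp h5
  · exact mcl hna (H679.SporOut.mcl h) (NotCT.Orders.mcl h) hp h5
  · exact hs hna (H679.SporOut.hs h) (NotCT.Orders.hs h) hp h5
  · exact suz hna (H679.SporOut.suz h) (NotCT.Orders.suz h) hp h5
  · exact he hna (H679.SporOut.he h) (NotCT.Orders.he h) hp h5
  · exact ru hna (H679.SporOut.ru h) (NotCT.Orders.ru h) hp h5
  · exact on hna (H679.SporOut.on h) (NotCT.Orders.on h) hp h5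
  · exact ly hna (H679.SporOut.ly h) (NotCT.Orders.ly h) hp h5
  · exact fi22 hna (H679.SporOut.fi22 h) (NotCT.Orders.fi22 h) hp h5
  · exact fi23 hna (H679.SporOut.fi23 h) (NotCT.Orders.fi23 h) hp h5
  · exact fi24 hna (H679.SporOut.fi24 h) (NotCT.Orders.fi24 h) hp h5
  · exact hn hna (H679.SporOut.hn h) (NotCT.Orders.hn h) hp h5
  · exact th hna (H679.SporOut.th h) (NotCT.Orders.th h) hp h5
  · exact b hna (H679.SporOut.b h) (NotCT.Orders.b h) hp h5
  · exact m hna (H679.SporOut.m h) (NotCT.Orders.m h) hp h5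

/-- **The Tits group.** -/
theorem compS_tits {S : Type u} [Group S] [Finite S] [IsSimpleGroup S] (hna : ∃ a b : S, a * b ≠ b * a)
    (h : Lie.IsoTits S) {p : ℕ} (hp : p.Prime) (h5 : 5 ≤ p) : CompS p S :=
  tits hna (H679.SporOut.tits h) (NotCT.Orders.tits h) hp h5

end Cfsg.Agent.H741.Pd
end

-- part: H741/Pd/OwnBase
section
prune_inst 0x800000000000008000000
set_option linter.all false
open scoped Cfsg.Agent.FastGrp

/-!
# S4977, own characteristic: tools (helper741)

* `compS_of_good` : the conclusion of S4834 for `S` and at most one prime `≠ p` which is a degree;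
* `le_degree` : lower bounds for the degrees of the irreducible representations of a covering group;
* `le_of_dvd_even` etc. : the primes dividing the order.
-/

set_option autoImplicit false

namespace Cfsg.Agent.H741.Pd

open Cfsg
open Cfsg.Agent.H687

universe u v

/-- Two characters of degree prime to `p`, with degrees not both equal to the same prime. -/
theorem compS_of_good {p : ℕ} [hp : Fact p.Prime] {S : Type u} [Group S] (hg : Good p S)
    (hu : ∀ χ ψ : IrrCharacter S, (charDegree (χ : S → ℂ)).Prime → (charDegree (ψ : S → ℂ)).Prime →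
      charDegree (χ : S → ℂ) ≠ p → charDegree (ψ : S → ℂ) ≠ p → charDegree (χ : S → ℂ) = charDegree (ψ : S → ℂ)) :
    CompS p S := by
  obtain ⟨α, β, h1, h2, h3, h4, ⟨ψ, hψ⟩, h6, h7⟩ := hg
  intro P hP
  by_cases hα : (charDegree (α : S → ℂ)).Prime
  · by_cases hβ : (charDegree (β : S → ℂ)).Prime
    · exfalso
      apply h6
      rw [hu α β hα hβ (fun h => h3 (by rw [h])) (fun h => h4 (by rw [h]))]
    · refine ⟨β, h4, h2, hβ, fun φ hφ s => h7 φ ?_ s⟩
      obtain ⟨k, hk⟩ := hP ⟨φ, hφ⟩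
      have h8 : φ ^ p ^ k = 1 := congrArg Subtype.val hk
      obtain ⟨j, -, hj⟩ := (Nat.dvd_prime_pow hp.1).1 (orderOf_dvd_of_pow_eq_one h8)
      exact ⟨j, hj⟩
  · refine ⟨α, h3, h1, hα, fun φ _ s => ?_⟩
    rw [← hψ, ← hψ]
    have h1 : MulAut.conj (φ s) = φ * MulAut.conj s * φ⁻¹ := by
      ext x
      simp [MulAut.conj_apply]
    rw [h1]
    exact Characters.Core.isIrr_isClassFunction ψ.2 _ _

/-- Lower bounds for the degrees of the irreducible representations of a covering group. -/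
theorem le_degree {G : Type u} {S : Type v} [Group G] [Group S] (π : G →* S)
    (hπ : Function.Surjective π) {B : ℕ}
    (hB : ∀ (k : ℕ) (ρ : Representation ℂ G (Fin k → ℂ)), ρ.IsIrreducible → 2 ≤ k → B ≤ k)
    (χ : IrrCharacter S) (h : charDegree (χ : S → ℂ) ≠ 1) (h0 : charDegree (χ : S → ℂ) ≠ 0) :
    B ≤ charDegree (χ : S → ℂ) := by
  obtain ⟨n, ρ, hρ, hχ⟩ := Characters.Core.isIrr_comp π hπ χ.2
  have hdeg : charDegree (χ : S → ℂ) = n := by
    apply charDegree_of_eq
    have h1 : ρ.character 1 = (χ : S → ℂ) 1 := by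
      rw [hχ, Function.comp_apply, map_one]
    rw [← h1, Representation.char_one, Module.finrank_fin_fun]
  rw [hdeg] at h h0 ⊢
  exact hB n ρ hρ (by omega)

/-- Primes `≠ p` do not divide powers of `p`. -/
theorem dvd_of_dvd_pow_mul {l p k N r : ℕ} (hl : l.Prime) (hp : p.Prime) (hlp : l ≠ p)
    (h : l ∣ (p ^ k) ^ N * r) : l ∣ r := by
  rcases hl.dvd_mul.1 h with h1 | h1
  · exfalso
    rw [← pow_mul] at h1
    exact hlp ((Nat.prime_dvd_prime_iff_eq hl hp).1 (hl.dvd_of_dvd_pow h1))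
  · exact h1

theorem le_of_dvd_even {l q j : ℕ} (hl : l.Prime) (hq : 2 ≤ q) (hj : 1 ≤ j) (h : l ∣ q ^ (2 * j) - 1) :
    l ≤ q ^ j + 1 := by
  have h1 : 2 ≤ q ^ j := by
    calc 2 ≤ q := hq
      _ = q ^ 1 := (pow_one q).symm
      _ ≤ q ^ j := Nat.pow_le_pow_right (by omega) hj
  have h2 : q ^ (2 * j) - 1 = (q ^ j + 1) * (q ^ j - 1) := by
    rw [mul_comm 2 j, pow_mul]
    have := Nat.sq_sub_sq (q ^ j) 1
    rwa [one_pow] at this
  rw [h2] at h
  rcases hl.dvd_mul.1 h with h3 | h3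
  · exact Nat.le_of_dvd (by omega) h3
  · have := Nat.le_of_dvd (by omega) h3
    omega

theorem le_of_dvd_sub {l q j : ℕ} (hq : 2 ≤ q) (hj : 1 ≤ j) (h : l ∣ q ^ j - 1) : l ≤ q ^ j := by
  have h1 : 2 ≤ q ^ j := by
    calc 2 ≤ q := hq
      _ = q ^ 1 := (pow_one q).symm
      _ ≤ q ^ j := Nat.pow_le_pow_right (by omega) hj
  have := Nat.le_of_dvd (by omega) h
  omega

/-- A degree is not zero. -/
theorem degree_ne_zero {S : Type u} [Group S] [Finite S] (χ : IrrCharacter S) : charDegree (χ : S → ℂ) ≠ 0 :=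
  Blocks.Knorr.charDegree_ne_zero χ.2

end Cfsg.Agent.H741.Pd
end

-- part: H741/Pd/OwnExc
section
prune_inst 0x6000144168a210000004001002000284110000000060000138420202090e5342800081004e0018100842b2801000000000100040400000000a003000000200000022c600c2bd0c08000000002006000000000000000000000000800000041000008000000
set_option linter.all false
open scoped Cfsg.Agent.FastGrp

/-!
# S4977, own characteristic: exceptional groups (helper741)
-/

set_option autoImplicit false

namespace Cfsg.Agent.H741.Pd.OwnExc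

open Cfsg Cfsg.Agent.H741.Pd

universe u

/-- **Own characteristic, large lower bound.** -/
theorem compS_of_bound {S : Type u} [Group S] [Finite S] [IsSimpleGroup S] (hna : ∃ a b : S, a * b ≠ b * a)
    {p q k N d r B : ℕ} [hp : Fact p.Prime] (hk : k ≠ 0) (hq : q = p ^ k) (hd : Nat.Coprime d p) (hN : 1 ≤ N)
    (h : d * Nat.card S = q ^ N * r)
    (hB : ∀ χ : IrrCharacter S, charDegree (χ : S → ℂ) ≠ 1 → B ≤ charDegree (χ : S → ℂ))
    (hr : ∀ l : ℕ, l.Prime → l ∣ r → l < B) : CompS p S := by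
  have hpS : p ∣ Nat.card S := by
    have h1 : p ∣ d * Nat.card S := by
      rw [h, hq, ← pow_mul]
      exact (dvd_pow_self p (by
        have : 1 ≤ k := Nat.one_le_iff_ne_zero.2 hk
        have : 1 ≤ k * N := Nat.mul_pos this hN
        omega)).mul_right _
    exact hd.symm.dvd_of_dvd_mul_left h1
  refine compS_of_large' hna hpS fun l hl hlp hlS χ hχ => ?_
  have h1 := hr l hl (dvd_of_dvd_pow_mul hl hp.1 hlp (N := N) (k := k) (by
    rw [← hq, ← h]
    exact hlS.mul_left _))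
  have h2 := hB χ (by rw [hχ]; exact hl.ne_one)
  omega

variable {F : Type} [Field F] [Fintype F] {p : ℕ} [hp : Fact p.Prime] [CharP F p]

theorem q_facts (h5 : 5 ≤ p) {q : ℕ} (hq : Fintype.card F = q) : (∃ k : ℕ, k ≠ 0 ∧ q = p ^ k) ∧ 5 ≤ q := by
  obtain ⟨k, hk, h⟩ := OrdCrit.exists_pow (F := F) hp.1
  refine ⟨⟨k, hk, hq ▸ h⟩, ?_⟩
  rw [← hq, h]
  calc 5 ≤ p := h5
    _ = p ^ 1 := (pow_one p).symm
    _ ≤ p ^ k := Nat.pow_le_pow_right hp.1.pos (Nat.one_le_iff_ne_zero.2 hk)

/-- `l ∣ q ^ (2 j) - 1`, `j ≤ m`. -/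
theorem le_pow_even {l q j m : ℕ} (hl : l.Prime) (hq : 2 ≤ q) (hj : 1 ≤ j) (hjm : j ≤ m)
    (h : l ∣ q ^ (2 * j) - 1) : l ≤ q ^ m + 1 := by
  have h1 := le_of_dvd_even hl hq hj h
  have h2 := Nat.pow_le_pow_right (show 0 < q by omega) hjm
  omega

theorem le_pow_sub {l q j m : ℕ} (hq : 2 ≤ q) (hj : 1 ≤ j) (hjm : j ≤ m)
    (h : l ∣ q ^ j - 1) : l ≤ q ^ m + 1 := by
  have h1 := le_of_dvd_sub hq hj h
  have h2 := Nat.pow_le_pow_right (show 0 < q by omega) hjm
  omega

theorem le_pow_add {l q j m : ℕ} (hq : 2 ≤ q) (hjm : j ≤ m)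
    (h : l ∣ q ^ j + 1) : l ≤ q ^ m + 1 := by
  have h1 := Nat.le_of_dvd (by omega) h
  have h2 := Nat.pow_le_pow_right (show 0 < q by omega) hjm
  omega

theorem e6 (h5 : 5 ≤ p) [IsSimpleGroup ↥(Lie.chevE6.group F)] (hna : ∃ a b : ↥(Lie.chevE6.group F), a * b ≠ b * a) :
    CompS p ↥(Lie.chevE6.group F) := by
  obtain ⟨q, hq⟩ : ∃ q, Fintype.card F = q := ⟨_, rfl⟩
  obtain ⟨⟨k, hk, hqp⟩, hq5⟩ := q_facts h5 hq
  have h1 := S1063.result (F := F) hq
  rw [mul_assoc, mul_assoc, mul_assoc, mul_assoc, mul_assoc] at h1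
  refine compS_of_bound hna hk hqp (Nat.Coprime.coprime_dvd_left (Nat.gcd_dvd_right _ _)
    (OrdCrit.coprime_sub hp.1 hk hqp)) (by norm_num) h1
    (B := q * (q ^ 6 + q ^ 3 + 1) * (q ^ 4 + 1)) (fun χ hχ => ?_) fun l hl h => ?_
  · exact le_degree (MonoidHom.id _) Function.surjective_id
      (fun k ρ hρ h2 => by have := S2340.result (F := F) k ρ hρ h2; rwa [hq] at this) χ hχ (degree_ne_zero χ)
  · have h2 : l ≤ q ^ 9 + 1 := by
      rcases hl.dvd_mul.1 h with h | h
      · exact le_pow_even (j := 1) hl (by omega) le_rfl (by norm_num) h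
      rcases hl.dvd_mul.1 h with h | h
      · exact le_pow_sub (by omega) (by norm_num) (by norm_num) h
      rcases hl.dvd_mul.1 h with h | h
      · exact le_pow_even (j := 3) hl (by omega) (by norm_num) (by norm_num) h
      rcases hl.dvd_mul.1 h with h | h
      · exact le_pow_even (j := 4) hl (by omega) (by norm_num) (by norm_num) h
      rcases hl.dvd_mul.1 h with h | h
      · exact le_pow_sub (by omega) (by norm_num) (by norm_num) h
      · exact le_pow_even (j := 6) hl (by omega) (by norm_num) (by norm_num) h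
    have h3 : q ^ 9 + 1 < q * (q ^ 6 + q ^ 3 + 1) * (q ^ 4 + 1) := by
      have h4 : q * q ^ 6 * q ^ 2 ≤ q * (q ^ 6 + q ^ 3 + 1) * q ^ 4 := by
        refine Nat.mul_le_mul (Nat.mul_le_mul le_rfl (by omega)) (Nat.pow_le_pow_right (by omega) (by norm_num))
      have h5 : q * q ^ 6 * q ^ 2 = q ^ 9 := by ring
      have h6 : q * (q ^ 6 + q ^ 3 + 1) * (q ^ 4 + 1) = q * (q ^ 6 + q ^ 3 + 1) * q ^ 4 + q * (q ^ 6 + q ^ 3 + 1) := by
        ring
      have h7 : 1 < q * (q ^ 6 + q ^ 3 + 1) := by nlinarith only [hq5, Nat.zero_le (q ^ 6 + q ^ 3)]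
      omega
    omega

theorem e8 (h5 : 5 ≤ p) [IsSimpleGroup ↥(Lie.chevE8.group F)] (hna : ∃ a b : ↥(Lie.chevE8.group F), a * b ≠ b * a) :
    CompS p ↥(Lie.chevE8.group F) := by
  obtain ⟨q, hq⟩ : ∃ q, Fintype.card F = q := ⟨_, rfl⟩
  obtain ⟨⟨k, hk, hqp⟩, hq5⟩ := q_facts h5 hq
  have h1 := S1065.result (F := F) hq
  rw [mul_assoc, mul_assoc, mul_assoc, mul_assoc, mul_assoc, mul_assoc, mul_assoc, ← one_mul (Nat.card _)] at h1
  refine compS_of_bound hna hk hqp (Nat.coprime_one_left p) (by norm_num) h1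
    (B := q * (q ^ 12 + 1) * (q ^ 10 + 1) * (q ^ 6 + 1)) (fun χ hχ => ?_) fun l hl h => ?_
  · exact le_degree (MonoidHom.id _) Function.surjective_id
      (fun k ρ hρ h2 => by have := S2339.result (F := F) k ρ hρ h2; rwa [hq] at this) χ hχ (degree_ne_zero χ)
  · have h2 : l ≤ q ^ 15 + 1 := by
      rcases hl.dvd_mul.1 h with h | h
      · exact le_pow_even (j := 1) hl (by omega) le_rfl (by norm_num) h
      rcases hl.dvd_mul.1 h with h | h
      · exact le_pow_even (j := 4) hl (by omega) (by norm_num) (by norm_num) h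
      rcases hl.dvd_mul.1 h with h | h
      · exact le_pow_even (j := 6) hl (by omega) (by norm_num) (by norm_num) h
      rcases hl.dvd_mul.1 h with h | h
      · exact le_pow_even (j := 7) hl (by omega) (by norm_num) (by norm_num) h
      rcases hl.dvd_mul.1 h with h | h
      · exact le_pow_even (j := 9) hl (by omega) (by norm_num) (by norm_num) h
      rcases hl.dvd_mul.1 h with h | h
      · exact le_pow_even (j := 10) hl (by omega) (by norm_num) (by norm_num) h
      rcases hl.dvd_mul.1 h with h | h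
      · exact le_pow_even (j := 12) hl (by omega) (by norm_num) (by norm_num) h
      · exact le_pow_even (j := 15) hl (by omega) (by norm_num) (by norm_num) h
    have h3 : q ^ 15 + 1 < q * (q ^ 12 + 1) * (q ^ 10 + 1) * (q ^ 6 + 1) := by
      have h4 : 1 * q ^ 12 * q ^ 3 * 1 < q * (q ^ 12 + 1) * (q ^ 10 + 1) * (q ^ 6 + 1) := by
        have h5 : 1 * q ^ 12 * q ^ 3 * 1 ≤ 1 * (q ^ 12 + 1) * (q ^ 10 + 1) * (q ^ 6 + 1) :=
          Nat.mul_le_mul (Nat.mul_le_mul (Nat.mul_le_mul le_rfl (by omega))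
            (le_trans (Nat.pow_le_pow_right (by omega) (by norm_num)) (Nat.le_succ _))) (by omega)
        have h6 : 0 < (q ^ 12 + 1) * (q ^ 10 + 1) * (q ^ 6 + 1) := by positivity
        have h7 : q * (q ^ 12 + 1) * (q ^ 10 + 1) * (q ^ 6 + 1) = q * ((q ^ 12 + 1) * (q ^ 10 + 1) * (q ^ 6 + 1)) := by
          ring
        have h8 : 1 * (q ^ 12 + 1) * (q ^ 10 + 1) * (q ^ 6 + 1) = (q ^ 12 + 1) * (q ^ 10 + 1) * (q ^ 6 + 1) := by
          ring
        rw [h7]
        rw [h8] at h5
        nlinarith only [hq5, h5, h6]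
      have h5 : 1 * q ^ 12 * q ^ 3 * 1 = q ^ 15 := by ring
      have h6 : q * (q ^ 12 + 1) * (q ^ 10 + 1) * (q ^ 6 + 1) ≠ q ^ 15 + 1 := by
        intro h7
        have h8 : q ∣ q ^ 15 + 1 := by
          rw [← h7]
          exact Dvd.intro _ (by rw [mul_assoc, mul_assoc])
        have h9 : q ∣ 1 := (Nat.dvd_add_right (dvd_pow_self q (by norm_num))).1 h8
        have := Nat.le_of_dvd one_pos h9
        omega
      omega
    omega

theorem twE6 (h5 : 5 ≤ p) {q : ℕ} (hpp : IsPrimePow q) (hF : Fintype.card F = q ^ 2)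
    [IsSimpleGroup ↥(Lie.twistedE6 F q)] (hna : ∃ a b : ↥(Lie.twistedE6 F q), a * b ≠ b * a) :
    CompS p ↥(Lie.twistedE6 F q) := by
  obtain ⟨k, hk, hqp⟩ := OrdCrit.root_pow hp.1 (by norm_num) (OrdCrit.exists_pow (F := F) hp.1) hF
  have hq5 : 5 ≤ q := by
    rw [hqp]
    calc 5 ≤ p := h5
      _ = p ^ 1 := (pow_one p).symm
      _ ≤ p ^ k := Nat.pow_le_pow_right hp.1.pos (Nat.one_le_iff_ne_zero.2 hk)
  have h1 := S1066.result hpp hF
  rw [mul_assoc, mul_assoc, mul_assoc, mul_assoc, mul_assoc] at h1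
  refine compS_of_bound hna hk hqp (Nat.Coprime.coprime_dvd_left (Nat.gcd_dvd_right _ _)
    (OrdCrit.coprime_add hp.1 hk hqp)) (by norm_num) h1
    (B := q * (q ^ 6 - q ^ 3 + 1) * (q ^ 4 + 1)) (fun χ hχ => ?_) fun l hl h => ?_
  · exact le_degree (MonoidHom.id _) Function.surjective_id
      (fun k ρ hρ h2 => S2341.result (K := F) q hpp hF k ρ hρ h2) χ hχ (degree_ne_zero χ)
  · have h2 : l ≤ q ^ 9 + 1 := by
      rcases hl.dvd_mul.1 h with h | h
      · exact le_pow_even (j := 1) hl (by omega) le_rfl (by norm_num) h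
      rcases hl.dvd_mul.1 h with h | h
      · exact le_pow_add (by omega) (by norm_num) h
      rcases hl.dvd_mul.1 h with h | h
      · exact le_pow_even (j := 3) hl (by omega) (by norm_num) (by norm_num) h
      rcases hl.dvd_mul.1 h with h | h
      · exact le_pow_even (j := 4) hl (by omega) (by norm_num) (by norm_num) h
      rcases hl.dvd_mul.1 h with h | h
      · exact le_pow_add (by omega) (by norm_num) h
      · exact le_pow_even (j := 6) hl (by omega) (by norm_num) (by norm_num) h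
    have h3 : q ^ 9 + 1 < q * (q ^ 6 - q ^ 3 + 1) * (q ^ 4 + 1) := by
      have h4 : q ^ 4 ≤ q ^ 6 - q ^ 3 := by
        have h6 : q ^ 6 = q ^ 2 * q ^ 4 := by ring
        have h7 : q ^ 3 ≤ q ^ 4 := Nat.pow_le_pow_right (by omega) (by norm_num)
        have h8 : 2 ≤ q ^ 2 := by nlinarith only [hq5]
        have h9 : 2 * q ^ 4 ≤ q ^ 2 * q ^ 4 := Nat.mul_le_mul h8 le_rfl
        omega
      have h5 : q * (q ^ 4 + 1) * (q ^ 4 + 1) ≤ q * (q ^ 6 - q ^ 3 + 1) * (q ^ 4 + 1) :=
        Nat.mul_le_mul (Nat.mul_le_mul le_rfl (by omega)) le_rfl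
      have h6 : q * (q ^ 4 + 1) * (q ^ 4 + 1) = q ^ 9 + 2 * q ^ 5 + q := by ring
      omega
    omega

theorem twD4 (h5 : 5 ≤ p) {q : ℕ} (hpp : IsPrimePow q) (hF : Fintype.card F = q ^ 3)
    [IsSimpleGroup ↥(Lie.twistedD4 F q)] (hna : ∃ a b : ↥(Lie.twistedD4 F q), a * b ≠ b * a) :
    CompS p ↥(Lie.twistedD4 F q) := by
  obtain ⟨k, hk, hqp⟩ := OrdCrit.root_pow hp.1 (by norm_num) (OrdCrit.exists_pow (F := F) hp.1) hF
  have hq5 : 5 ≤ q := by
    rw [hqp]
    calc 5 ≤ p := h5
      _ = p ^ 1 := (pow_one p).symm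
      _ ≤ p ^ k := Nat.pow_le_pow_right hp.1.pos (Nat.one_le_iff_ne_zero.2 hk)
  have h1 := S1067.result hpp hF
  rw [mul_assoc, mul_assoc, ← one_mul (Nat.card _)] at h1
  refine compS_of_bound hna hk hqp (Nat.coprime_one_left p) (by norm_num) h1
    (B := q * (q ^ 4 - q ^ 2 + 1)) (fun χ hχ => ?_) fun l hl h => ?_
  · exact le_degree (MonoidHom.id _) Function.surjective_id
      (fun k ρ hρ h2 => S2342.result (K := F) q hpp hF k ρ hρ h2) χ hχ (degree_ne_zero χ)
  · obtain ⟨s, hs⟩ : ∃ s, q ^ 2 = s := ⟨_, rfl⟩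
    have hs25 : 25 ≤ s := by nlinarith only [hq5, hs]
    have hq4 : q ^ 4 = s ^ 2 := by rw [← hs]; ring
    have hq8 : q ^ 8 = s ^ 4 := by rw [← hs]; ring
    have h9 : s ≤ s ^ 2 := by nlinarith only []
    have h2 : l ≤ s ^ 2 + s + 1 := by
      rcases hl.dvd_mul.1 h with h | h
      · have := le_pow_even (j := 1) (m := 2) hl (by omega) le_rfl (by norm_num) h
        omega
      rcases hl.dvd_mul.1 h with h | h
      · have := le_pow_even (j := 3) (m := 4) hl (by omega) (by norm_num) (by norm_num) h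
        omega
      · have h10 : q ^ 8 + q ^ 4 + 1 = (s ^ 2 + s + 1) * (s ^ 2 - s + 1) := by
          rw [hq8, hq4]
          obtain ⟨t, ht⟩ := Nat.exists_eq_add_of_le h9
          have h11 : s ^ 2 - s = t := by omega
          rw [h11]
          have h12 : t = s ^ 2 - s := h11.symm
          zify at ht h12 ⊢
          have h13 : (t : ℤ) = s ^ 2 - s := by linarith only [ht]
          rw [h13]
          ring
        rw [h10] at h
        rcases hl.dvd_mul.1 h with h | h
        · exact Nat.le_of_dvd (by omega) h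
        · have := Nat.le_of_dvd (by omega) h
          omega
    have h3 : s ^ 2 + s + 1 < q * (q ^ 4 - q ^ 2 + 1) := by
      rw [hq4, hs]
      have h4 : 5 * (s ^ 2 - s + 1) ≤ q * (s ^ 2 - s + 1) := Nat.mul_le_mul hq5 le_rfl
      have h5 : 25 * s ≤ s ^ 2 := by nlinarith only [hs25]
      omega
    omega

theorem e7 (h5 : 5 ≤ p) [IsSimpleGroup ↥(Lie.chevE7.group F)] (hna : ∃ a b : ↥(Lie.chevE7.group F), a * b ≠ b * a) :
    CompS p ↥(Lie.chevE7.group F) := by
  obtain ⟨q, hq⟩ : ∃ q, Fintype.card F = q := ⟨_, rfl⟩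
  obtain ⟨⟨k, hk, hqp⟩, hq5⟩ := q_facts h5 hq
  have h1 := S1064.result (F := F) hq
  rw [mul_assoc, mul_assoc, mul_assoc, mul_assoc, mul_assoc, mul_assoc] at h1
  refine compS_of_bound hna hk hqp (Nat.Coprime.coprime_dvd_left (Nat.gcd_dvd_right _ _)
    (OrdCrit.coprime_sub hp.1 hk hqp)) (by norm_num) h1
    (B := q ^ 10) (fun χ hχ => ?_) fun l hl h => ?_
  · have := ChevHeis.degree_ge (F := F) (D := Lie.chevE7) (by simp) ChevHeis.chkE7 h5 hp.1 χ hχ
    rw [hq] at this
    exact this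
  · have h2 : l ≤ q ^ 9 + 1 := by
      rcases hl.dvd_mul.1 h with h | h
      · exact le_pow_even (j := 1) hl (by omega) le_rfl (by norm_num) h
      rcases hl.dvd_mul.1 h with h | h
      · exact le_pow_even (j := 3) hl (by omega) (by norm_num) (by norm_num) h
      rcases hl.dvd_mul.1 h with h | h
      · exact le_pow_even (j := 4) hl (by omega) (by norm_num) (by norm_num) h
      rcases hl.dvd_mul.1 h with h | h
      · exact le_pow_even (j := 5) hl (by omega) (by norm_num) (by norm_num) h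
      rcases hl.dvd_mul.1 h with h | h
      · exact le_pow_even (j := 6) hl (by omega) (by norm_num) (by norm_num) h
      rcases hl.dvd_mul.1 h with h | h
      · exact le_pow_even (j := 7) hl (by omega) (by norm_num) (by norm_num) h
      · exact le_pow_even (j := 9) hl (by omega) (by norm_num) (by norm_num) h
    have h3 : q ^ 9 + 1 < q ^ 10 := by
      have h4 : q ^ 10 = q * q ^ 9 := by ring
      have h6 : 1 ≤ q ^ 9 := Nat.one_le_pow _ _ (by omega)
      nlinarith only [hq5, h6]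
    omega

theorem f4 (h5 : 5 ≤ p) [IsSimpleGroup ↥(Lie.chevF4.group F)] (hna : ∃ a b : ↥(Lie.chevF4.group F), a * b ≠ b * a) :
    CompS p ↥(Lie.chevF4.group F) := by
  obtain ⟨q, hq⟩ : ∃ q, Fintype.card F = q := ⟨_, rfl⟩
  obtain ⟨⟨k, hk, hqp⟩, hq5⟩ := q_facts h5 hq
  have h1 := S1062.result (F := F) hq
  rw [mul_assoc, mul_assoc, mul_assoc, ← one_mul (Nat.card _)] at h1
  refine compS_of_bound hna hk hqp (Nat.coprime_one_left p) (by norm_num) h1
    (B := q ^ 7) (fun χ hχ => ?_) fun l hl h => ?_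
  · have := ChevHeis.degree_ge (F := F) (D := Lie.chevF4) (by simp) ChevHeis.chkF4 h5 hp.1 χ hχ
    rw [hq] at this
    exact this
  · have h2 : l ≤ q ^ 6 + 1 := by
      rcases hl.dvd_mul.1 h with h | h
      · exact le_pow_even (j := 1) hl (by omega) le_rfl (by norm_num) h
      rcases hl.dvd_mul.1 h with h | h
      · exact le_pow_even (j := 3) hl (by omega) (by norm_num) (by norm_num) h
      rcases hl.dvd_mul.1 h with h | h
      · exact le_pow_even (j := 4) hl (by omega) (by norm_num) (by norm_num) h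
      · exact le_pow_even (j := 6) hl (by omega) (by norm_num) (by norm_num) h
    have h3 : q ^ 6 + 1 < q ^ 7 := by
      have h4 : q ^ 7 = q * q ^ 6 := by ring
      have h6 : 1 ≤ q ^ 6 := Nat.one_le_pow _ _ (by omega)
      nlinarith only [hq5, h6]
    omega

/-- `G₂(q)`: a prime degree `≠ p` is `q² + q + 1`. -/
theorem g2 (h5 : 5 ≤ p) [IsSimpleGroup ↥(Lie.chevG2.group F)] :
    CompS p ↥(Lie.chevG2.group F) := by
  obtain ⟨q, hq⟩ : ∃ q, Fintype.card F = q := ⟨_, rfl⟩
  obtain ⟨⟨k, hk, hqp⟩, hq5⟩ := q_facts h5 hq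
  have h1 := S1059.result (F := F) hq
  rw [mul_assoc] at h1
  have key : ∀ χ : IrrCharacter ↥(Lie.chevG2.group F), (charDegree (χ : ↥(Lie.chevG2.group F) → ℂ)).Prime →
      charDegree (χ : ↥(Lie.chevG2.group F) → ℂ) ≠ p → charDegree (χ : ↥(Lie.chevG2.group F) → ℂ) = q ^ 2 + q + 1 := by
    intro χ hl hlp
    have h2 := ChevHeis.degree_ge (F := F) (D := Lie.chevG2) (by simp) ChevHeis.chkG2 h5 hp.1 χ hl.ne_one
    rw [hq] at h2
    have h3 : charDegree (χ : ↥(Lie.chevG2.group F) → ℂ) ∣ (q ^ 2 - 1) * (q ^ 6 - 1) := by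
      refine dvd_of_dvd_pow_mul hl hp.1 hlp (N := 6) (k := k) ?_
      rw [← hqp, ← h1]
      exact Blocks.Knorr.charDegree_dvd χ.2
    generalize charDegree (χ : ↥(Lie.chevG2.group F) → ℂ) = l at hl hlp h2 h3 ⊢
    change q ^ 2 ≤ l at h2
    have h4 : l ∣ q ^ 2 - 1 ∨ l ∣ q ^ 2 + q + 1 ∨ l ∣ q ^ 2 - q + 1 := by
      rcases hl.dvd_mul.1 h3 with h | h
      · exact Or.inl h
      · have h9 : q ≤ q ^ 2 := by nlinarith only []
        have h10 : q ^ 6 - 1 = (q ^ 2 - 1) * ((q ^ 2 + q + 1) * (q ^ 2 - q + 1)) := by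
          have h11 : 1 ≤ q ^ 2 := by linarith only [hq5, h9]
          have h12 : 1 ≤ q ^ 6 := Nat.one_le_pow _ _ (by omega)
          zify [h9, h11, h12]
          ring
        rw [h10] at h
        rcases hl.dvd_mul.1 h with h | h
        · exact Or.inl h
        · exact Or.inr (hl.dvd_mul.1 h)
    have h9 : 5 * q ≤ q ^ 2 := by nlinarith only [hq5]
    rcases h4 with h | h | h
    · have := Nat.le_of_dvd (by omega) h
      omega
    · obtain ⟨c, hc⟩ := h
      have h10 : c < 2 := by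
        by_contra h11
        have : l * 2 ≤ l * c := Nat.mul_le_mul le_rfl (by omega)
        omega
      have h11 : c ≠ 0 := by
        rintro rfl
        omega
      have h12 : c = 1 := by omega
      rw [hc, h12, mul_one]
    · have := Nat.le_of_dvd (by omega) h
      omega
  refine compS_of_good (H443.GoodChev.good_chev (by omega) Lie.chevG2 (by simp)) fun χ ψ h1 h2 h3 h4 => ?_
  rw [key χ h1 h3, key ψ h2 h4]

end Cfsg.Agent.H741.Pd.OwnExc
end

-- part: H741/Pd/OwnCls
section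
prune_inst 0x6000044160221000000400100200028411000000006000002802000209084302804089000e001102084232801000000811000040420000000a003000000200000020c20042910c00000000000004000000000000000000000000800000000000008000000
set_option linter.all false
open scoped Cfsg.Agent.FastGrp

/-!
# S4977, own characteristic: the prime degrees of the classical groups (helper741)

`psl_key`, `psu_key`, `psp_key`: a prime degree `≠ p` is determined by the group;
`psl_four`, `psu_even`, `po_odd`, `po_plus`, `po_minus`: `CompS p` as there is none.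
-/

set_option autoImplicit false

namespace Cfsg.Agent.H741.Pd.OwnCls

open Cfsg Cfsg.Agent.H741.Pd Finset
open Cfsg.Agent.H741.Pd.OwnExc

universe u

/-- `l ≥ A - 1`, `l ∣ A` prime: `l = A`. -/
theorem eq_of_dvd_succ {l A : ℕ} (hl : l.Prime) (hA : A ≠ 0) (h : l ∣ A) (h1 : A ≤ l + 1) : l = A := by
  obtain ⟨c, hc⟩ := h
  have h2 := hl.two_le
  have h10 : c < 2 := by
    by_contra h11
    have : l * 2 ≤ l * c := Nat.mul_le_mul le_rfl (by omega)
    omega
  have h11 : c ≠ 0 := by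
    rintro rfl
    exact hA (by rw [hc, mul_zero])
  have h12 : c = 1 := by omega
  rw [hc, h12, mul_one]

section fam

variable {F : Type} [Field F] [Fintype F] {p : ℕ} [hp : Fact p.Prime] [CharP F p]

local notation "GS" => fun (q n : ℕ) => ∑ i ∈ range n, q ^ i

theorem gs_mul {q : ℕ} (hq : 1 ≤ q) (n : ℕ) : (∑ i ∈ range n, q ^ i) * (q - 1) = q ^ n - 1 :=
  geom_sum_mul_of_one_le hq n

theorem gs_mono {q m n : ℕ} (h : m ≤ n) : ∑ i ∈ range m, q ^ i ≤ ∑ i ∈ range n, q ^ i :=
  Finset.sum_le_sum_of_subset (Finset.range_subset_range.2 h)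

/-- **`PSL_n(q)`**: a prime degree `≠ p` is `(q ^ n - 1) / (q - 1)`. -/
theorem psl_key (h5 : 5 ≤ p) {n : ℕ} (hn : 3 ≤ n)
    (χ : IrrCharacter (Matrix.ProjectiveSpecialLinearGroup (Fin n) F))
    (hl : (charDegree (χ : Matrix.ProjectiveSpecialLinearGroup (Fin n) F → ℂ)).Prime)
    (hlp : charDegree (χ : Matrix.ProjectiveSpecialLinearGroup (Fin n) F → ℂ) ≠ p) :
    charDegree (χ : Matrix.ProjectiveSpecialLinearGroup (Fin n) F → ℂ) = ∑ i ∈ range n, Fintype.card F ^ i := by
  classical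
  obtain ⟨q, hq⟩ : ∃ q, Fintype.card F = q := ⟨_, rfl⟩
  obtain ⟨⟨k, hk, hqp⟩, hq5⟩ := q_facts (F := F) h5 hq
  obtain ⟨m, rfl⟩ : ∃ m, n = m + 1 := ⟨n - 1, by omega⟩
  have h := S0243.result (F := F) hq (m + 1) (by omega)
  rw [OrdCrit.prod_gl] at h
  have hB := (S2332.result (F := F) (m + 1) hn ⟨by simp only [ne_eq, Prod.mk.injEq, not_and]; omega,
    by simp only [ne_eq, Prod.mk.injEq, not_and]; omega, by simp only [ne_eq, Prod.mk.injEq, not_and]; omega,
    by simp only [ne_eq, Prod.mk.injEq, not_and]; omega⟩).1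
  rw [hq] at hB ⊢
  have h2 : (q ^ (m + 1) - q) / (q - 1) ≤ charDegree (χ : Matrix.ProjectiveSpecialLinearGroup (Fin (m + 1)) F → ℂ) :=
    le_degree (QuotientGroup.mk' _) (QuotientGroup.mk'_surjective _) hB χ hl.ne_one (degree_ne_zero χ)
  have h3 : charDegree (χ : Matrix.ProjectiveSpecialLinearGroup (Fin (m + 1)) F → ℂ) ∣
      ∏ i ∈ range (m + 1), (q ^ (i + 1) - 1) := by
    refine dvd_of_dvd_pow_mul hl hp.1 hlp (N := (m + 1) * (m + 1 - 1) / 2) (k := k) ?_
    rw [← hqp, ← h]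
    exact ((Blocks.Knorr.charDegree_dvd χ.2).mul_left _).mul_left _
  have h4 : (q ^ (m + 1) - q) / (q - 1) = q * ∑ i ∈ range m, q ^ i := by
    have h6 : q ^ (m + 1) - q = q * (∑ i ∈ range m, q ^ i) * (q - 1) := by
      rw [mul_assoc, gs_mul (by omega), Nat.mul_sub, mul_one, pow_succ, mul_comm (q ^ m)]
    rw [h6, Nat.mul_div_cancel _ (by omega)]
  rw [h4] at h2
  generalize charDegree (χ : Matrix.ProjectiveSpecialLinearGroup (Fin (m + 1)) F → ℂ) = l at hl hlp h2 h3 ⊢
  obtain ⟨i, hi, h7⟩ := (Prime.dvd_finsetProd_iff hl.prime _).1 h3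
  rw [mem_range] at hi
  rw [← gs_mul (by omega)] at h7
  have hGm : 1 + q ≤ ∑ i ∈ range m, q ^ i := by
    have := gs_mono (q := q) (show 2 ≤ m by omega)
    simpa [Finset.sum_range_succ] using this
  have hGq : 5 * ∑ i ∈ range m, q ^ i ≤ q * ∑ i ∈ range m, q ^ i := Nat.mul_le_mul hq5 le_rfl
  rcases hl.dvd_mul.1 h7 with h8 | h8
  · rcases Nat.lt_or_ge i m with h9 | h9
    · have h10 := Nat.le_of_dvd (by
        have := gs_mono (q := q) (show 1 ≤ i + 1 by omega)
        simp only [Finset.sum_range_one, pow_zero] at this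
        omega) h8
      have h11 := gs_mono (q := q) (show i + 1 ≤ m by omega)
      omega
    · have h10 : i = m := by omega
      subst h10
      have h12 : ∑ j ∈ range (i + 1), q ^ j = q * (∑ j ∈ range i, q ^ j) + 1 := geom_sum_succ
      refine eq_of_dvd_succ hl (by omega) h8 (by omega)
  · have := Nat.le_of_dvd (by omega) h8
    omega

/-- `PSL_4(q)`: no prime degree `≠ p`. -/
theorem psl_four (h5 : 5 ≤ p) [IsSimpleGroup (Matrix.ProjectiveSpecialLinearGroup (Fin 4) F)]
    (hna : ∃ a b : Matrix.ProjectiveSpecialLinearGroup (Fin 4) F, a * b ≠ b * a) :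
    CompS p (Matrix.ProjectiveSpecialLinearGroup (Fin 4) F) := by
  have hpS : p ∣ Nat.card (Matrix.ProjectiveSpecialLinearGroup (Fin 4) F) :=
    (dvd_pow_self p two_ne_zero).trans (Sq.psl hp.1 (by norm_num))
  refine compS_of_large hna hpS fun χ hχ => ?_
  by_contra hne
  have h1 := psl_key h5 (by norm_num) χ hχ hne
  have h2 : ∑ i ∈ range 4, Fintype.card F ^ i = (Fintype.card F + 1) * (Fintype.card F ^ 2 + 1) := by
    simp only [Finset.sum_range_succ, Finset.sum_range_zero]
    ring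
  have h3 : 1 < Fintype.card F := Fintype.one_lt_card
  rw [h1, h2] at hχ
  refine Nat.not_prime_mul (by omega) ?_ hχ
  have : 0 < Fintype.card F ^ 2 := by positivity
  omega

/-- Primes dividing `q ^ (i + 1) ± 1`. -/
theorem psu_dvd {l q n i : ℕ} (hl : l.Prime) (hq5 : 5 ≤ q) (hn : 3 ≤ n) (hi : i < n)
    (h : l ∣ if Even i then q ^ (i + 1) + 1 else q ^ (i + 1) - 1) :
    (l + 1) * (q + 1) ≤ q ^ (n - 1) + q ^ (n - 2) + 2 * q + 2 ∨ (Odd n ∧ l ∣ (q ^ n + 1) / (q + 1)) := by
  have hx : q ^ (n - 1) = q * q ^ (n - 2) := by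
    rw [show n - 1 = (n - 2) + 1 by omega, pow_succ, mul_comm]
  have hlow : q + 1 ≤ q ^ (n - 2) + 1 := by
    have : q ^ 1 ≤ q ^ (n - 2) := Nat.pow_le_pow_right (by omega) (by omega)
    rw [pow_one] at this
    omega
  have key : l ≤ q ^ (n - 2) + 1 → (l + 1) * (q + 1) ≤ q ^ (n - 1) + q ^ (n - 2) + 2 * q + 2 := by
    intro h1
    have h2 : (l + 1) * (q + 1) ≤ (q ^ (n - 2) + 1 + 1) * (q + 1) := Nat.mul_le_mul (by omega) le_rfl
    have h3 : (q ^ (n - 2) + 1 + 1) * (q + 1) = q * q ^ (n - 2) + q ^ (n - 2) + 2 * q + 2 := by ring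
    rw [hx]
    omega
  by_cases he : Even i
  · rw [if_pos he] at h
    have hodd : Odd (i + 1) := he.add_one
    have hd : q + 1 ∣ q ^ (i + 1) + 1 := by
      have := Odd.nat_add_dvd_pow_add_pow q 1 hodd
      rwa [one_pow] at this
    obtain ⟨c, hc⟩ := hd
    have hcd : (q ^ (i + 1) + 1) / (q + 1) = c := by
      rw [hc, Nat.mul_div_cancel_left _ (by omega)]
    rw [hc] at h
    rcases hl.dvd_mul.1 h with h1 | h1
    · exact Or.inl (key ((Nat.le_of_dvd (by omega) h1).trans hlow))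
    · by_cases hin : i + 1 = n
      · right
        rw [← hin]
        exact ⟨hodd, by rwa [hcd]⟩
      · left
        have hc0 : 0 < c := by
          rcases Nat.eq_zero_or_pos c with h2 | h2
          · rw [h2] at hc
            omega
          · exact h2
        have h2 := Nat.le_of_dvd hc0 h1
        have h3 : (l + 1) * (q + 1) ≤ (c + 1) * (q + 1) := Nat.mul_le_mul (by omega) le_rfl
        have h4 : (c + 1) * (q + 1) = (q + 1) * c + q + 1 := by ring
        have h6 : q ^ (i + 1) ≤ q ^ (n - 1) := Nat.pow_le_pow_right (by omega) (by omega)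
        omega
  · rw [if_neg he] at h
    left
    obtain ⟨j, hj⟩ := Nat.not_even_iff_odd.1 he
    have h1 : i + 1 = 2 * (j + 1) := by omega
    rw [h1] at h
    apply key
    rcases Nat.lt_or_ge n 4 with h4 | h4
    · exact le_pow_even hl (by omega) (by omega) (by omega) h
    · exact le_pow_even hl (by omega) (by omega) (by omega) h

theorem psu_num {q n : ℕ} (hq5 : 5 ≤ q) (hn : 3 ≤ n) :
    q ^ (n - 1) + q ^ (n - 2) + 2 * q + 2 < q ^ n - q := by
  obtain ⟨m, rfl⟩ : ∃ m, n = m + 3 := ⟨n - 3, by omega⟩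
  have e1 : m + 3 - 1 = m + 2 := by omega
  have e2 : m + 3 - 2 = m + 1 := by omega
  rw [e1, e2]
  obtain ⟨x, hx⟩ : ∃ x, q ^ (m + 1) = x := ⟨_, rfl⟩
  have h1 : q ^ (m + 2) = q * x := by rw [← hx]; ring
  have h2 : q ^ (m + 3) = q * (q * x) := by rw [← hx]; ring
  rw [h1, h2, hx]
  have h3 : q ≤ x := by
    rw [← hx]
    exact Nat.le_self_pow (by omega) q
  have h4 : 5 * x ≤ q * x := Nat.mul_le_mul hq5 le_rfl
  have h5 : 5 * (q * x) ≤ q * (q * x) := Nat.mul_le_mul hq5 le_rfl
  omega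

/-- **`PSU_n(q)`, `n` odd**: a prime degree `≠ p` is `(q ^ n + 1) / (q + 1)`. -/
theorem psu_key (h5 : 5 ≤ p) {n q : ℕ} (hn : 3 ≤ n) (hodd : Odd n) (hF : Fintype.card F = q ^ 2)
    (χ : IrrCharacter (PSU n F q)) (hl : (charDegree (χ : PSU n F q → ℂ)).Prime)
    (hlp : charDegree (χ : PSU n F q → ℂ) ≠ p) :
    charDegree (χ : PSU n F q → ℂ) = (q ^ n + 1) / (q + 1) := by
  classical
  obtain ⟨k, hk, hqp⟩ := OrdCrit.root_pow hp.1 (by norm_num) (OrdCrit.exists_pow (F := F) hp.1) hF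
  have hq5 : 5 ≤ q := by
    rw [hqp]
    calc 5 ≤ p := h5
      _ = p ^ 1 := (pow_one p).symm
      _ ≤ p ^ k := Nat.pow_le_pow_right hp.1.pos (Nat.one_le_iff_ne_zero.2 hk)
  have h := S0280.result (F := F) hF n (by omega)
  have hB := S2334.result (F := F) n q hn hodd hF (by simp only [ne_eq, Prod.mk.injEq, not_and]; omega)
  have h2 : (q ^ n - q) / (q + 1) ≤ charDegree (χ : PSU n F q → ℂ) :=
    le_degree (QuotientGroup.mk' _) (QuotientGroup.mk'_surjective _) hB χ hl.ne_one (degree_ne_zero χ)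
  have h3 : charDegree (χ : PSU n F q → ℂ) ∣
      ∏ i ∈ range n, (if Even i then q ^ (i + 1) + 1 else q ^ (i + 1) - 1) := by
    refine dvd_of_dvd_pow_mul hl hp.1 hlp (N := n * (n - 1) / 2) (k := k) ?_
    rw [← hqp, ← h]
    exact ((Blocks.Knorr.charDegree_dvd χ.2).mul_left _).mul_left _
  generalize charDegree (χ : PSU n F q → ℂ) = l at hl hlp h2 h3 ⊢
  obtain ⟨i, hi, h7⟩ := (Prime.dvd_finsetProd_iff hl.prime _).1 h3
  rw [mem_range] at hi
  obtain ⟨A, hA⟩ : q + 1 ∣ q ^ n + 1 := by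
    have := Odd.nat_add_dvd_pow_add_pow q 1 hodd
    rwa [one_pow] at this
  have hAd : (q ^ n + 1) / (q + 1) = A := by
    rw [hA, Nat.mul_div_cancel_left _ (by omega)]
  have hA0 : A ≠ 0 := by
    rintro rfl
    omega
  have hqn : q ≤ q ^ n := Nat.le_self_pow (by omega) q
  have hBA : (q ^ n - q) / (q + 1) = A - 1 := by
    apply Nat.div_eq_of_eq_mul_right (by omega)
    rw [Nat.mul_sub, ← hA]
    (clear * -; omega)
  rw [hAd]
  have hnum := psu_num hq5 hn
  rcases psu_dvd hl hq5 hn hi h7 with h8 | ⟨-, h8⟩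
  · exfalso
    rw [hBA] at h2
    have h9 : (A - 1 + 1) * (q + 1) ≤ (l + 1) * (q + 1) := Nat.mul_le_mul (by omega) le_rfl
    have h10 : (A - 1 + 1) * (q + 1) = (q + 1) * A := by
      rw [Nat.sub_add_cancel (by omega), mul_comm]
    omega
  · rw [hAd] at h8
    exact eq_of_dvd_succ hl hA0 h8 (by omega)

/-- `PSU_n(q)`, `n` even: no prime degree `≠ p`. -/
theorem psu_even (h5 : 5 ≤ p) {n q : ℕ} (hn : 4 ≤ n) (heven : Even n) (hF : Fintype.card F = q ^ 2)
    [IsSimpleGroup (PSU n F q)] (hna : ∃ a b : PSU n F q, a * b ≠ b * a) : CompS p (PSU n F q) := by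
  classical
  obtain ⟨k, hk, hqp⟩ := OrdCrit.root_pow hp.1 (by norm_num) (OrdCrit.exists_pow (F := F) hp.1) hF
  have hq5 : 5 ≤ q := by
    rw [hqp]
    calc 5 ≤ p := h5
      _ = p ^ 1 := (pow_one p).symm
      _ ≤ p ^ k := Nat.pow_le_pow_right hp.1.pos (Nat.one_le_iff_ne_zero.2 hk)
  have hpS : p ∣ Nat.card (PSU n F q) := (dvd_pow_self p two_ne_zero).trans (Sq.psu hp.1 hF (by omega))
  refine compS_of_large' hna hpS fun l hl hlp hlS χ hχ => ?_
  have h := S0280.result (F := F) hF n (by omega)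
  have hB := S2335.result (F := F) n q hn heven hF ⟨by simp only [ne_eq, Prod.mk.injEq, not_and]; omega,
    by simp only [ne_eq, Prod.mk.injEq, not_and]; omega⟩
  have h2 : (q ^ n - 1) / (q + 1) ≤ charDegree (χ : PSU n F q → ℂ) :=
    le_degree (QuotientGroup.mk' _) (QuotientGroup.mk'_surjective _) hB χ (by rw [hχ]; exact hl.ne_one)
      (degree_ne_zero χ)
  have h3 : l ∣ ∏ i ∈ range n, (if Even i then q ^ (i + 1) + 1 else q ^ (i + 1) - 1) := by
    refine dvd_of_dvd_pow_mul hl hp.1 hlp (N := n * (n - 1) / 2) (k := k) ?_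
    rw [← hqp, ← h]
    exact (hlS.mul_left _).mul_left _
  rw [hχ] at h2
  obtain ⟨i, hi, h7⟩ := (Prime.dvd_finsetProd_iff hl.prime _).1 h3
  rw [mem_range] at hi
  have hnum := psu_num hq5 (show 3 ≤ n by omega)
  rcases psu_dvd hl hq5 (by omega) hi h7 with h8 | ⟨h8, -⟩
  · have h9 : l + 1 ≤ (q ^ n - 1) / (q + 1) := by
      rw [Nat.le_div_iff_mul_le (by omega)]
      (clear * - hnum h8; omega)
    omega
  · exact Nat.not_even_iff_odd.2 h8 heven

/-- **`PSp_{2m}(q)`**: a prime degree `≠ p` is `(q ^ m + 1) / 2`. -/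
theorem psp_key (h5 : 5 ≤ p) {m : ℕ} (hm : 2 ≤ m) (χ : IrrCharacter (PSp m F))
    (hl : (charDegree (χ : PSp m F → ℂ)).Prime) (hlp : charDegree (χ : PSp m F → ℂ) ≠ p) :
    charDegree (χ : PSp m F → ℂ) = (Fintype.card F ^ m + 1) / 2 := by
  classical
  obtain ⟨q, hq⟩ : ∃ q, Fintype.card F = q := ⟨_, rfl⟩
  obtain ⟨⟨k, hk, hqp⟩, hq5⟩ := q_facts (F := F) h5 hq
  have hpodd : Odd p := hp.1.odd_of_ne_two (by omega)
  have hqodd : Odd q := by rw [hqp]; exact hpodd.pow
  have h1 := S0245.result (F := F) hq m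
  have hB := (S2347.result (F := F) m hm (by rw [hq]; exact hqodd)).1
  rw [hq] at hB ⊢
  have h2 : (q ^ m - 1) / 2 ≤ charDegree (χ : PSp m F → ℂ) :=
    le_degree (QuotientGroup.mk' _) (QuotientGroup.mk'_surjective _) hB χ hl.ne_one (degree_ne_zero χ)
  have h3 : charDegree (χ : PSp m F → ℂ) ∣ ∏ i ∈ range m, (q ^ (2 * (i + 1)) - 1) := by
    refine dvd_of_dvd_pow_mul hl hp.1 hlp (N := m ^ 2) (k := k) ?_
    rw [← hqp, ← h1]
    exact (Blocks.Knorr.charDegree_dvd χ.2).trans (Subgroup.card_quotient_dvd_card _)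
  generalize charDegree (χ : PSp m F → ℂ) = l at hl hlp h2 h3 ⊢
  obtain ⟨i, hi, h7⟩ := (Prime.dvd_finsetProd_iff hl.prime _).1 h3
  rw [mem_range] at hi
  obtain ⟨n, rfl⟩ : ∃ n, m = n + 1 := ⟨m - 1, by omega⟩
  obtain ⟨t, ht⟩ : Odd (q ^ (n + 1)) := hqodd.pow
  have hlow : q ≤ q ^ n := Nat.le_self_pow (by omega) q
  have hup : 5 * q ^ n ≤ q ^ (n + 1) := by
    rw [pow_succ, mul_comm]
    exact Nat.mul_le_mul le_rfl hq5
  rw [ht] at h2 hup ⊢
  have h8 : (2 * t + 1 - 1) / 2 = t := by omega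
  have h9 : (2 * t + 1 + 1) / 2 = t + 1 := by omega
  rw [h8] at h2
  rw [h9]
  rcases Nat.lt_or_ge i n with h10 | h10
  · have h11 := le_pow_even (m := n) hl (by omega) (by omega) (by omega) h7
    omega
  · have h11 : i = n := by omega
    subst h11
    have h12 : q ^ (2 * (i + 1)) - 1 = (2 * t + 1 + 1) * (2 * t + 1 - 1) := by
      rw [← ht, mul_comm 2 (i + 1), pow_mul]
      have := Nat.sq_sub_sq (q ^ (i + 1)) 1
      rwa [one_pow] at this
    rw [h12] at h7
    rcases hl.dvd_mul.1 h7 with h13 | h13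
    · have h14 : 2 * t + 1 + 1 = 2 * (t + 1) := by ring
      rw [h14] at h13
      rcases hl.dvd_mul.1 h13 with h15 | h15
      · have := Nat.le_of_dvd (by norm_num) h15
        omega
      · exact eq_of_dvd_succ hl (by omega) h15 (by omega)
    · have h14 : 2 * t + 1 - 1 = (∑ j ∈ range (i + 1), q ^ j) * (q - 1) := by
        rw [gs_mul (by omega), ht]
      rw [h14] at h13
      rcases hl.dvd_mul.1 h13 with h15 | h15
      · have h16 : 0 < ∑ j ∈ range (i + 1), q ^ j := by
          have := gs_mono (q := q) (show 1 ≤ i + 1 by omega)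
          simp only [Finset.sum_range_one, pow_zero] at this
          omega
        have h17 := Nat.le_of_dvd h16 h15
        have h18 : (∑ j ∈ range (i + 1), q ^ j) * 4 ≤ (∑ j ∈ range (i + 1), q ^ j) * (q - 1) :=
          Nat.mul_le_mul le_rfl (by omega)
        omega
      · have := Nat.le_of_dvd (by omega) h15
        (clear * - hq5 h2 hlow hup this; omega)

/-- `PΩ_{2m+1}(q)`. -/
theorem po_odd (h5 : 5 ≤ p) {m : ℕ} (hm : 3 ≤ m) [IsSimpleGroup (POmega F (quadFormOdd m F))]
    (hna : ∃ a b : POmega F (quadFormOdd m F), a * b ≠ b * a) : CompS p (POmega F (quadFormOdd m F)) := by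
  classical
  obtain ⟨q, hq⟩ : ∃ q, Fintype.card F = q := ⟨_, rfl⟩
  obtain ⟨⟨k, hk, hqp⟩, hq5⟩ := q_facts (F := F) h5 hq
  have hpodd : Odd p := hp.1.odd_of_ne_two (by omega)
  have hqodd : Odd q := by rw [hqp]; exact hpodd.pow
  have h1 := S0292.result (F := F) hq hqodd m hm
  have hB := S2344.result (F := F) m hm (by rw [hq]; exact hqodd) (by omega)
  rw [hq] at hB
  refine compS_of_bound hna hk hqp (by
    rw [Nat.coprime_primes Nat.prime_two hp.1]
    omega) (N := m ^ 2) (Nat.one_le_pow _ _ (by omega)) h1 (B := (q ^ (2 * m) - 1) / (q ^ 2 - 1))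
    (fun χ hχ => le_degree (QuotientGroup.mk' _) (QuotientGroup.mk'_surjective _) hB χ hχ (degree_ne_zero χ))
    fun l hl h => ?_
  obtain ⟨i, hi, h7⟩ := (Prime.dvd_finsetProd_iff hl.prime _).1 h
  rw [mem_range] at hi
  have h8 := le_pow_even (m := m) hl (by omega) (by omega) (by omega) h7
  obtain ⟨x, hx⟩ : ∃ x, q ^ m = x := ⟨_, rfl⟩
  have hx3 : q * q ^ 2 ≤ x := by
    rw [← hx]
    calc q * q ^ 2 = q ^ 3 := by ring
      _ ≤ q ^ m := Nat.pow_le_pow_right (by omega) hm
  have h25 : 25 ≤ q ^ 2 := by nlinarith only [hq5]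
  have h9 : q ^ (2 * m) = x * x := by rw [← hx, mul_comm, pow_mul, sq]
  rw [h9]
  rw [hx] at h8
  have h10 : l + 1 ≤ (x * x - 1) / (q ^ 2 - 1) := by
    rw [Nat.le_div_iff_mul_le (by omega)]
    have h11 : (l + 1) * (q ^ 2 - 1) ≤ (x + 2) * (q ^ 2 - 1) := Nat.mul_le_mul (by omega) le_rfl
    have h12 : 5 * q ^ 2 ≤ x := le_trans (Nat.mul_le_mul hq5 le_rfl) hx3
    obtain ⟨s, hs⟩ : ∃ s, q ^ 2 = s + 1 := ⟨q ^ 2 - 1, by omega⟩
    rw [hs] at h11 h12 ⊢
    have h13 : s + 1 - 1 = s := by omega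
    rw [h13] at h11 ⊢
    have h14 : (x + 2) * s + 1 ≤ x * x := by nlinarith only [h12]
    omega
  omega

/-- `PΩ⁺_{2m}(q)`. -/
theorem po_plus (h5 : 5 ≤ p) {m : ℕ} (hm : 4 ≤ m) [IsSimpleGroup (POmega F (quadFormPlus m F))]
    (hna : ∃ a b : POmega F (quadFormPlus m F), a * b ≠ b * a) : CompS p (POmega F (quadFormPlus m F)) := by
  classical
  obtain ⟨q, hq⟩ : ∃ q, Fintype.card F = q := ⟨_, rfl⟩
  obtain ⟨⟨k, hk, hqp⟩, hq5⟩ := q_facts (F := F) h5 hq
  have h1 := S0293.result (F := F) hq m hm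
  rw [mul_assoc] at h1
  have hB := S2345.result (F := F) m hm (by omega)
  rw [hq] at hB
  refine compS_of_bound hna hk hqp (Nat.Coprime.coprime_dvd_left (Nat.gcd_dvd_right _ _)
    (OrdCrit.coprime_pow_sub m (by omega) hp.1 hk hqp)) (N := m * (m - 1)) (Nat.mul_pos (by omega) (by omega)) h1
    (B := (q ^ m - 1) * (q ^ (m - 1) + q) / (q ^ 2 - 1))
    (fun χ hχ => le_degree (QuotientGroup.mk' _) (QuotientGroup.mk'_surjective _) hB χ hχ (degree_ne_zero χ))
    fun l hl h => ?_
  obtain ⟨x, hx⟩ : ∃ x, q ^ (m - 1) = x := ⟨_, rfl⟩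
  have hxm : q ^ m = q * x := by
    rw [← hx, ← pow_succ', Nat.sub_add_cancel (by omega)]
  have hx3 : q * q ^ 2 ≤ x := by
    rw [← hx]
    calc q * q ^ 2 = q ^ 3 := by ring
      _ ≤ q ^ (m - 1) := Nat.pow_le_pow_right (by omega) (by omega)
  have h25 : 25 ≤ q ^ 2 := by nlinarith only [hq5]
  have h12 : 5 * q ^ 2 ≤ x := le_trans (Nat.mul_le_mul hq5 le_rfl) hx3
  have hqx : 5 * x ≤ q * x := Nat.mul_le_mul hq5 le_rfl
  have h8 : l ≤ q * x - 1 := by
    rcases hl.dvd_mul.1 h with h7 | h7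
    · rw [hxm] at h7
      exact Nat.le_of_dvd (by omega) h7
    · obtain ⟨i, hi, h7⟩ := (Prime.dvd_finsetProd_iff hl.prime _).1 h7
      rw [mem_range] at hi
      have h8 := le_pow_even (m := m - 1) hl (by omega) (by omega) (by omega) h7
      omega
  rw [hx, hxm]
  have h10 : l + 1 ≤ (q * x - 1) * (x + q) / (q ^ 2 - 1) := by
    rw [Nat.le_div_iff_mul_le (by omega)]
    have h11 : (l + 1) * (q ^ 2 - 1) ≤ (q * x) * (q ^ 2 - 1) := Nat.mul_le_mul (by omega) le_rfl
    obtain ⟨s, hs⟩ : ∃ s, q ^ 2 = s + 1 := ⟨q ^ 2 - 1, by omega⟩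
    obtain ⟨y, hy⟩ : ∃ y, q * x = y + 1 := ⟨q * x - 1, by omega⟩
    rw [hs] at h11 h12 ⊢
    rw [hy] at h11 ⊢
    have h13 : s + 1 - 1 = s := by omega
    have h14 : y + 1 - 1 = y := by omega
    rw [h13] at h11 ⊢
    rw [h14]
    have h15 : (y + 1) * s ≤ y * (x + q) := by nlinarith only [hqx, h12, hy]
    omega
  omega

/-- `PΩ⁻_{2m}(q)`. -/
theorem po_minus (h5 : 5 ≤ p) {m : ℕ} (hm : 4 ≤ m) (a b : F)
    (hab : ∀ z₁ z₂ : F, z₁ ^ 2 + a * z₁ * z₂ + b * z₂ ^ 2 = 0 → z₁ = 0 ∧ z₂ = 0)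
    [IsSimpleGroup (POmega F (quadFormMinus (m - 1) F a b))]
    (hna : ∃ x y : POmega F (quadFormMinus (m - 1) F a b), x * y ≠ y * x) :
    CompS p (POmega F (quadFormMinus (m - 1) F a b)) := by
  classical
  obtain ⟨q, hq⟩ : ∃ q, Fintype.card F = q := ⟨_, rfl⟩
  obtain ⟨⟨k, hk, hqp⟩, hq5⟩ := q_facts (F := F) h5 hq
  have h1 := S0294.result (F := F) hq m hm a b hab
  rw [mul_assoc] at h1
  have hB := S2346.result (F := F) m hm a b hab
  rw [hq] at hB
  refine compS_of_bound hna hk hqp (Nat.Coprime.coprime_dvd_left (Nat.gcd_dvd_right _ _)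
    (OrdCrit.coprime_pow_add m (by omega) hp.1 hk hqp)) (N := m * (m - 1)) (Nat.mul_pos (by omega) (by omega)) h1
    (B := (q ^ m + 1) * (q ^ (m - 1) - q) / (q ^ 2 - 1))
    (fun χ hχ => le_degree (QuotientGroup.mk' _) (QuotientGroup.mk'_surjective _) hB χ hχ (degree_ne_zero χ))
    fun l hl h => ?_
  obtain ⟨x, hx⟩ : ∃ x, q ^ (m - 1) = x := ⟨_, rfl⟩
  have hxm : q ^ m = q * x := by
    rw [← hx, ← pow_succ', Nat.sub_add_cancel (by omega)]
  have hx3 : q * q ^ 2 ≤ x := by
    rw [← hx]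
    calc q * q ^ 2 = q ^ 3 := by ring
      _ ≤ q ^ (m - 1) := Nat.pow_le_pow_right (by omega) (by omega)
  have h25 : 5 * q ≤ q ^ 2 := by nlinarith only [hq5]
  have h12 : 5 * q ^ 2 ≤ x := le_trans (Nat.mul_le_mul hq5 le_rfl) hx3
  have hqx : 5 * x ≤ q * x := Nat.mul_le_mul hq5 le_rfl
  have h8 : l ≤ q * x + 1 := by
    rcases hl.dvd_mul.1 h with h7 | h7
    · rw [hxm] at h7
      exact Nat.le_of_dvd (by omega) h7
    · obtain ⟨i, hi, h7⟩ := (Prime.dvd_finsetProd_iff hl.prime _).1 h7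
      rw [mem_range] at hi
      have h8 := le_pow_even (m := m - 1) hl (by omega) (by omega) (by omega) h7
      omega
  rw [hx, hxm]
  have h10 : l + 1 ≤ (q * x + 1) * (x - q) / (q ^ 2 - 1) := by
    rw [Nat.le_div_iff_mul_le (by omega)]
    have h11 : (l + 1) * (q ^ 2 - 1) ≤ (q * x + 2) * (q ^ 2 - 1) := Nat.mul_le_mul (by omega) le_rfl
    obtain ⟨s, hs⟩ : ∃ s, q ^ 2 = s + 1 := ⟨q ^ 2 - 1, by omega⟩
    have h16 : 2 * s ≤ x - q := by omega
    rw [hs] at h11 ⊢
    have h13 : s + 1 - 1 = s := by omega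
    rw [h13] at h11 ⊢
    have h15 : (q * x + 1) * (2 * s) ≤ (q * x + 1) * (x - q) := Nat.mul_le_mul le_rfl h16
    have h17 : (q * x + 2) * s ≤ (q * x + 1) * (2 * s) := by nlinarith only [hqx]
    omega
  omega

end fam

end Cfsg.Agent.H741.Pd.OwnCls
end

-- part: H741/Pd/OwnTwo
section
prune_inst 0x800000000000008000000
set_option linter.all false
open scoped Cfsg.Agent.FastGrp

/-!
# S4977, own characteristic: `PSL₂(q)` (helper741)
-/

set_option autoImplicit false

namespace Cfsg.Agent.H741.Pd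

open Cfsg

/-- **`PSL₂(q)`, `p ∣ q`.** -/
theorem compS_psl_two {F : Type} [Field F] [Fintype F] {p : ℕ} [hp : Fact p.Prime] [CharP F p] (h5 : 5 ≤ p) :
    CompS p (Matrix.ProjectiveSpecialLinearGroup (Fin 2) F) := by
  obtain ⟨q, hq⟩ : ∃ q, Fintype.card F = q := ⟨_, rfl⟩
  obtain ⟨⟨k, hk, hqp⟩, hq5⟩ := OwnExc.q_facts (F := F) h5 hq
  have hpodd : Odd p := hp.1.odd_of_ne_two (by omega)
  have hqodd : Odd q := by rw [hqp]; exact hpodd.pow
  by_cases hq55 : q = 5
  · obtain ⟨e⟩ := S0253.result (F := F) (by omega)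
    exact CompS.of_equiv e (compS_alt_five hp.1 h5)
  · have key : ∀ χ : IrrCharacter (Matrix.ProjectiveSpecialLinearGroup (Fin 2) F),
        (charDegree (χ : Matrix.ProjectiveSpecialLinearGroup (Fin 2) F → ℂ)).Prime →
        charDegree (χ : Matrix.ProjectiveSpecialLinearGroup (Fin 2) F → ℂ) ≠ p →
        charDegree (χ : Matrix.ProjectiveSpecialLinearGroup (Fin 2) F → ℂ) = (q + 1) / 2 ∨
        charDegree (χ : Matrix.ProjectiveSpecialLinearGroup (Fin 2) F → ℂ) = (q - 1) / 2 := by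
      intro χ hl hlp
      have h1 := (S2299.result (F := F) (by rw [hq]; exact hqodd)).1 _
        (Characters.Core.isIrr_comp (QuotientGroup.mk' (Subgroup.center
        (Matrix.SpecialLinearGroup (Fin 2) F))) (QuotientGroup.mk'_surjective _) χ.2)
      rw [Function.comp_apply, map_one, hq] at h1
      have hd : ∀ d : ℕ, (χ : Matrix.ProjectiveSpecialLinearGroup (Fin 2) F → ℂ) 1 = (d : ℂ) →
          charDegree (χ : Matrix.ProjectiveSpecialLinearGroup (Fin 2) F → ℂ) = d := fun d h => H687.charDegree_of_eq h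
      rcases h1 with h1 | h1 | h1 | h1 | h1 | h1
      · exact absurd (hd 1 (by rw [h1, Nat.cast_one])) hl.ne_one
      · exfalso
        have h2 := hd q h1
        rw [h2, hqp] at hl
        have h3 : k = 1 := by
          by_contra h4
          exact Nat.Prime.not_prime_pow (by omega) hl
        rw [h2, hqp, h3, pow_one] at hlp
        exact hlp rfl
      · exfalso
        have h2 := hd (q + 1) (by rw [h1]; push_cast; ring)
        rw [h2] at hl
        obtain ⟨t, ht⟩ := hqodd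
        have := (Nat.prime_dvd_prime_iff_eq Nat.prime_two hl).1 (by omega)
        omega
      · exfalso
        have h2 := hd (q - 1) (by rw [h1, Nat.cast_sub (by omega), Nat.cast_one])
        rw [h2] at hl
        obtain ⟨t, ht⟩ := hqodd
        have := (Nat.prime_dvd_prime_iff_eq Nat.prime_two hl).1 (by omega)
        omega
      · exact Or.inl (hd _ h1)
      · exact Or.inr (hd _ h1)
    refine compS_of_good (H949.GoodPsl.good_psl2 (F := F) (by omega)) fun χ ψ h1 h2 h3 h4 => ?_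
    obtain ⟨t, ht⟩ := hqodd
    have e1 : (q + 1) / 2 = t + 1 := by omega
    have e2 : (q - 1) / 2 = t := by omega
    have hno : ¬ (t.Prime ∧ (t + 1).Prime) := by
      rintro ⟨h6, h7⟩
      rcases Nat.even_or_odd t with h8 | h8
      · have := (Nat.prime_dvd_prime_iff_eq Nat.prime_two h6).1 h8.two_dvd
        omega
      · have := (Nat.prime_dvd_prime_iff_eq Nat.prime_two h7).1 (h8.add_one).two_dvd
        omega
    have k1 := key χ h1 h3
    have k2 := key ψ h2 h4
    rw [e1, e2] at k1 k2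
    rcases k1 with k1 | k1 <;> rcases k2 with k2 | k2
    · rw [k1, k2]
    · exfalso
      rw [k1] at h1
      rw [k2] at h2
      exact hno ⟨h2, h1⟩
    · exfalso
      rw [k1] at h1
      rw [k2] at h2
      exact hno ⟨h1, h2⟩
    · rw [k1, k2]

end Cfsg.Agent.H741.Pd
end

-- part: H741/Pd/Table
section
prune_inst 0x800000000000008000000
set_option linter.all false
open scoped Cfsg.Agent.FastGrp

/-!
# S4977: the table (helper741)
-/

set_option autoImplicit false

namespace Cfsg.Agent.H741.Pd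

open Cfsg

universe u v

theorem noncomm_congr {S : Type u} {T : Type v} [Group S] [Group T] (e : S ≃* T) (h : ∃ a b : S, a * b ≠ b * a) :
    ∃ a b : T, a * b ≠ b * a := by
  obtain ⟨a, b, hab⟩ := h
  refine ⟨e a, e b, fun h => hab (e.injective ?_)⟩
  rw [map_mul, map_mul, h]

theorem not_isMulComm {S : Type u} [Group S] (h : ∃ a b : S, a * b ≠ b * a) : ¬ IsMulCommutative S := by
  intro hc
  obtain ⟨a, b, hab⟩ := h
  exact hab (hc.is_comm.comm a b)

/-- `Good` for the projective symplectic groups. -/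
def GoodPSp (p : ℕ) : Prop :=
  ∀ (F : Type) [Field F] [Fintype F] [CharP F p] (m : ℕ), 2 ≤ m → H687.Good p (PSp m F)

theorem goodPSp {p : ℕ} [Fact p.Prime] (h5 : 5 ≤ p) : GoodPSp p := by
  intro F _ _ _ m hm
  refine H877.Pol.good_psp hm (by omega) ?_
  letI := Fintype.ofFinite F
  obtain ⟨π, h1, h2, h3, h4, h5⟩ := H650.CuspPGL.exists_cusp (p := p) (by omega) F
  exact ⟨π, h1, h2, h3, h4, h5⟩

/-- **Own characteristic.** -/
theorem compS_own {p : ℕ} [hp : Fact p.Prime] (h5 : 5 ≤ p) (hpsp : GoodPSp p) {S : Type u} [Group S] [Finite S]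
    [IsSimpleGroup S] (hna : ∃ a b : S, a * b ≠ b * a) (h : IsLieTypeChar p S) : CompS p S := by
  rcases h with h | h | h | h | h | h | h | h | ⟨hp', -⟩ | ⟨hp', -⟩ | ⟨hp', -⟩
  · obtain ⟨F, i1, i2, i3, n, h1, -, ⟨f⟩⟩ := h
    refine CompS.of_equiv f ?_
    have hs : IsSimpleGroup (Matrix.ProjectiveSpecialLinearGroup (Fin n) F) := f.symm.isSimpleGroup
    have hna' := noncomm_congr f hna
    by_cases h2 : n = 2
    · subst h2
      exact compS_psl_two h5
    · by_cases h4 : n = 4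
      · subst h4
        exact OwnCls.psl_four h5 hna'
      · refine compS_of_good (H279.GoodPSL.good_psl (by omega) (by omega) h4) fun χ ψ k1 k2 k3 k4 => ?_
        rw [OwnCls.psl_key h5 (by omega) χ k1 k3, OwnCls.psl_key h5 (by omega) ψ k2 k4]
  · obtain ⟨F, i1, i2, i3, m, h1, -, ⟨f⟩⟩ := h
    refine CompS.of_equiv f (compS_of_good (hpsp F m h1) fun χ ψ k1 k2 k3 k4 => ?_)
    rw [OwnCls.psp_key h5 h1 χ k1 k3, OwnCls.psp_key h5 h1 ψ k2 k4]
  · obtain ⟨F, i1, i2, i3, n, q, h1, h2, -, ⟨f⟩⟩ := h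
    refine CompS.of_equiv f ?_
    have hs : IsSimpleGroup (PSU n F q) := f.symm.isSimpleGroup
    have hna' := noncomm_congr f hna
    rcases Nat.even_or_odd n with he | ho
    · refine OwnCls.psu_even h5 ?_ he h1 hna'
      obtain ⟨k, rfl⟩ := he
      omega
    · refine compS_of_good (H594.GoodPSU.good_psu (by omega) h1 h2 ?_) fun χ ψ k1 k2 k3 k4 => ?_
      · rintro rfl
        exact absurd ho (by decide)
      · rw [OwnCls.psu_key h5 h2 ho h1 χ k1 k3, OwnCls.psu_key h5 h2 ho h1 ψ k2 k4]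
  · obtain ⟨F, i1, i2, i3, m, h1, -, ⟨f⟩⟩ := h
    refine CompS.of_equiv f ?_
    have hs : IsSimpleGroup (POmega F (quadFormOdd m F)) := f.symm.isSimpleGroup
    exact OwnCls.po_odd h5 h1 (noncomm_congr f hna)
  · obtain ⟨F, i1, i2, i3, m, h1, ⟨f⟩⟩ := h
    refine CompS.of_equiv f ?_
    have hs : IsSimpleGroup (POmega F (quadFormPlus m F)) := f.symm.isSimpleGroup
    exact OwnCls.po_plus h5 h1 (noncomm_congr f hna)
  · obtain ⟨F, i1, i2, i3, m, a, b, h1, h2, ⟨f⟩⟩ := h
    refine CompS.of_equiv f ?_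
    have hs : IsSimpleGroup (POmega F (quadFormMinus (m - 1) F a b)) := f.symm.isSimpleGroup
    exact OwnCls.po_minus h5 h1 a b h2 (noncomm_congr f hna)
  · obtain ⟨F, i1, i2, i3, h⟩ := h
    rcases h with ⟨-, ⟨f⟩⟩ | ⟨⟨f⟩⟩ | ⟨⟨f⟩⟩ | ⟨⟨f⟩⟩ | ⟨⟨f⟩⟩
    · have hs : IsSimpleGroup ↥(Lie.chevG2.group F) := f.symm.isSimpleGroup
      exact CompS.of_equiv f (OwnExc.g2 h5)
    · have hs : IsSimpleGroup ↥(Lie.chevF4.group F) := f.symm.isSimpleGroup
      exact CompS.of_equiv f (OwnExc.f4 h5 (noncomm_congr f hna))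
    · have hs : IsSimpleGroup ↥(Lie.chevE6.group F) := f.symm.isSimpleGroup
      exact CompS.of_equiv f (OwnExc.e6 h5 (noncomm_congr f hna))
    · have hs : IsSimpleGroup ↥(Lie.chevE7.group F) := f.symm.isSimpleGroup
      exact CompS.of_equiv f (OwnExc.e7 h5 (noncomm_congr f hna))
    · have hs : IsSimpleGroup ↥(Lie.chevE8.group F) := f.symm.isSimpleGroup
      exact CompS.of_equiv f (OwnExc.e8 h5 (noncomm_congr f hna))
  · obtain ⟨F, i1, i2, i3, q, hq, h⟩ := h
    rcases h with ⟨h1, ⟨f⟩⟩ | ⟨h1, ⟨f⟩⟩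
    · have hs : IsSimpleGroup ↥(Lie.twistedE6 F q) := f.symm.isSimpleGroup
      exact CompS.of_equiv f (OwnExc.twE6 h5 hq h1 (noncomm_congr f hna))
    · have hs : IsSimpleGroup ↥(Lie.twistedD4 F q) := f.symm.isSimpleGroup
      exact CompS.of_equiv f (OwnExc.twD4 h5 hq h1 (noncomm_congr f hna))
  · omega
  · omega
  · omega

/-- **The table.** -/
theorem compS_all {p : ℕ} [hp : Fact p.Prime] (h5 : 5 ≤ p) {S : Type u} [Group S] [Finite S]
    [IsSimpleGroup S] (hna : ∃ a b : S, a * b ≠ b * a) (h : IsKnownSimple' S) : CompS p S := by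
  rcases OddHalf.Known.classify' (not_isMulComm hna) h with h | h | h | h
  · obtain ⟨n, hn, ⟨e⟩⟩ := h
    exact CompS.of_equiv e (compS_alt hp.1 h5 hn)
  · obtain ⟨r, hr, h⟩ := h
    by_cases hpr : p = r
    · subst hpr
      exact compS_own h5 (goodPSp h5) hna h
    · rcases Sq.lie_sq hr h with h1 | ⟨F, i1, i2, i3, h1, h2, ⟨e⟩⟩
      · exact compS_cross hp.1 hr hpr (not_isMulComm hna) h h1
      · exact CompS.of_equiv e (compS_psl_prime hp.1 h5 hr h2 h1 hpr)
  · exact compS_tits hna h hp.1 h5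
  · exact compS_sporadic hna h hp.1 h5

end Cfsg.Agent.H741.Pd
end

-- part: H741/Pd/Red
section
prune_inst 0x40003004088000000018001040000200100000020040000010420602000610022001080148000d120812880020000008110000000000000000000000000000000022c600c2890008200000002003080c00000000000000000000000000041000000000000
set_option linter.all false
open scoped Cfsg.Agent.FastGrp

/-!
# S4977: reduction to simple groups (helper741)
-/

set_option autoImplicit false

namespace Cfsg.Agent.H741.Pd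

open Cfsg Subgroup
open Cfsg.Agent.H687
open Cfsg.Agent.H626 (ip)
open Cfsg.Agent.Characters.Core
open scoped commutatorElement

universe u v

/-- A normal subgroup on which the character contains the trivial character is in the kernel. -/
theorem apply_eq_of_ip_one {G : Type u} [Group G] [Finite G] (K : Subgroup G) [K.Normal] {χ : G → ℂ}
    (hχ : IsIrrCharacter G χ) (h0 : ip (fun k : K => χ k) 1 ≠ 0) (k : K) : χ k = χ 1 := by
  have h1 := H626.restrict_linear K hχ (α := 1) ⟨isIrr_one, rfl⟩ (fun g => by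
    funext x
    rfl) h0 k
  rw [h1, Pi.one_apply, mul_one]

theorem isIrr_restrict_iff {G : Type u} [Group G] [Finite G] (N : Subgroup G) {χ : G → ℂ} (hχ : IsCharacter G χ)
    {ψ : N → ℂ} (hψ : IsIrrCharacter N ψ) (h : ip (fun x : N => χ x) ψ ≠ 0) (h1 : χ 1 = ψ 1) :
    IsIrrCharacter N (fun x : N => χ x) := by
  have := Fintype.ofFinite G
  have := Fintype.ofFinite N
  rw [H626.ip_eq] at h
  rw [H681.DegBasic.restrict_eq_of_degree N hχ hψ h h1]
  exact hψ

/-- A restriction of prime degree to a minimal normal nonabelian subgroup. -/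
theorem simple_of_prime {G : Type u} [Group G] [Finite G] (N : Subgroup G) [hN : N.Normal] (hN1 : N ≠ ⊥)
    (hmin : ∀ K : Subgroup G, K.Normal → K ≤ N → K = ⊥ ∨ K = N) (hna : ¬ ∀ a ∈ N, ∀ b ∈ N, a * b = b * a)
    {χ : G → ℂ} (hχ : IsIrrCharacter G χ) {r : ℕ} (hr : r.Prime) (hχ1 : χ 1 = r)
    (hirr : IsIrrCharacter N (fun n : N => χ n)) : IsSimpleGroup N := by
  classical
  obtain ⟨S, hSN, hNS, hSs, hSna, hNC, -⟩ := H612.MinNormal.exists_factor N hN1 hmin hna
  obtain ⟨m, ρ, hρ, rfl⟩ := hχ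
  -- the kernel
  obtain ⟨K, hK⟩ : ∃ K : Subgroup G, K = N ⊓ (ρ : G →* Module.End ℂ (Fin m → ℂ)).ker := ⟨_, rfl⟩
  have hKn : K.Normal := by
    rw [hK]
    infer_instance
  have hKbot : K = ⊥ := by
    rcases hmin K hKn (hK ▸ inf_le_left) with h | h
    · exact h
    exfalso
    have h1 : ∀ n : N, ρ.character n = (r : ℂ) := by
      intro n
      have h2 : (n : G) ∈ K := by rw [h]; exact n.2
      rw [hK, Subgroup.mem_inf] at h2
      have h3 : ρ (n : G) = 1 := h2.2
      rw [← hχ1]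
      exact (H600.Red.char_eq_one_iff ρ _).2 h3
    have h4 := H626.ip_self hirr
    have h5 : (fun n : N => ρ.character (n : G)) = (r : ℂ) • (1 : N → ℂ) := by
      funext n
      rw [h1 n]
      simp
    rw [h5, H626.ip_smul_left, H626.ip_smul_right, H626.ip_self isIrr_one, Complex.conj_natCast, mul_one] at h4
    have h6 : r * r = 1 := by exact_mod_cast h4
    have := hr.two_le
    nlinarith
  have hker : ∀ n ∈ N, ρ n = 1 → n = 1 := by
    intro n hn h
    have : n ∈ K := by
      rw [hK]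
      exact ⟨hn, h⟩
    rw [hKbot, Subgroup.mem_bot] at this
    exact this
  -- the restriction to `S`
  have hS' : (S.subgroupOf N).Normal := by
    refine ⟨fun a ha n => ?_⟩
    rw [Subgroup.mem_subgroupOf] at ha ⊢
    have h1 := (Subgroup.mem_normalizer_iff.1 (hNS n.2) a).1 ha
    simpa using h1
  let e : S.subgroupOf N ≃* S := Subgroup.subgroupOfEquivOfLe hSN
  have hsimp' : IsSimpleGroup (S.subgroupOf N) := e.isSimpleGroup
  have hperf' : commutator (S.subgroupOf N) = ⊤ := by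
    apply commutator_eq_top
    by_contra hcon
    push Not at hcon
    apply hSna
    refine ⟨⟨fun a b => ?_⟩⟩
    have h1 := hcon (e.symm a) (e.symm b)
    rw [← map_mul, ← map_mul] at h1
    exact e.symm.injective h1
  have := Fintype.ofFinite N
  have := Fintype.ofFinite (S.subgroupOf N)
  obtain ⟨ψ, d, hψ, hd, hψne, hdr⟩ := H681.DegBasic.exists_constituent (S.subgroupOf N) hirr (n := r) (by
    show ρ.character ((1 : N) : G) = r
    exact hχ1)
  have hSirr : IsIrrCharacter (S.subgroupOf N) (fun s : S.subgroupOf N => ρ.character ((s : N) : G)) := by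
    rcases (Nat.dvd_prime hr).1 hdr.1 with h1 | h1
    · exfalso
      have h2 : ψ = 1 := eq_one_of_degree hperf' hψ (charDegree_of_eq (by rw [hd, h1]))
      rw [h2] at hψne
      have h3 : ∀ s : S.subgroupOf N, s = 1 := by
        intro s
        have h4 := apply_eq_of_ip_one (S.subgroupOf N) hirr (by rw [H626.ip_eq]; exact hψne) s
        have h5 : ρ ((s : N) : G) = 1 := (H600.Red.char_eq_one_iff ρ _).1 h4
        have h6 := hker _ (s : N).2 h5
        exact Subtype.ext (Subtype.ext h6)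
      obtain ⟨a, ha⟩ := exists_ne (1 : S.subgroupOf N)
      exact ha (h3 a)
    · exact isIrr_restrict_iff (S.subgroupOf N) (isIrr_isCharacter hirr) hψ (by rw [H626.ip_eq]; exact hψne) (by
        rw [hd, h1]
        exact hχ1)
  obtain ⟨ρ', hρ'⟩ : ∃ ρ' : Representation ℂ (S.subgroupOf N) (Fin m → ℂ),
      ρ' = (MonoidHom.comp (ρ : G →* Module.End ℂ (Fin m → ℂ)) (N.subtype.comp (S.subgroupOf N).subtype)) := ⟨_, rfl⟩
  have hρ'irr : ρ'.IsIrreducible := by
    apply isIrreducible_of_isIrrCharacter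
    have : ρ'.character = fun s : S.subgroupOf N => ρ.character ((s : N) : G) := by
      rw [hρ']
      rfl
    rw [this]
    exact hSirr
  -- elements centralising `S`
  have hcent : ∀ c ∈ N, c ∈ Subgroup.centralizer (S : Set G) → c = 1 := by
    intro c hc hcS
    obtain ⟨z, hz⟩ := Characters.Central.exists_smul_of_comm _ hρ'irr (ρ c) (by
      intro s
      rw [hρ']
      show ρ c * ρ ((s : N) : G) = ρ ((s : N) : G) * ρ c
      rw [← map_mul, ← map_mul]
      have h1 := Subgroup.mem_centralizer_iff.1 hcS ((s : N) : G) s.2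
      rw [h1])
    -- `c` is central in `N`
    have hcZ : ∀ n ∈ N, n * c = c * n := by
      intro n hn
      have h1 : ρ (n * c * n⁻¹ * c⁻¹) = 1 := by
        rw [map_mul, map_mul, map_mul, hz]
        have h2 : ρ n * (z • 1) * ρ n⁻¹ = z • (1 : Module.End ℂ (Fin m → ℂ)) := by
          rw [mul_smul_comm, mul_one, smul_mul_assoc, ← map_mul, mul_inv_cancel, map_one]
        rw [h2, ← hz, ← map_mul, mul_inv_cancel, map_one]
      have h3 := hker _ (N.mul_mem (hN.conj_mem c hc n) (N.inv_mem hc)) h1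
      rw [mul_inv_eq_one, mul_inv_eq_iff_eq_mul] at h3
      exact h3
    have hZn : ((Subgroup.center N).map N.subtype).Normal := inferInstance
    rcases hmin _ hZn (Subgroup.map_subtype_le _) with h | h
    · have h1 : (⟨c, hc⟩ : N) ∈ Subgroup.center N := by
        rw [Subgroup.mem_center_iff]
        intro n
        exact Subtype.ext (hcZ n n.2)
      have h2 : c ∈ (Subgroup.center N).map N.subtype := ⟨⟨c, hc⟩, h1, rfl⟩
      rw [h, Subgroup.mem_bot] at h2
      exact h2
    · exfalso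
      apply hna
      intro a ha b hb
      rw [← h] at ha
      obtain ⟨a', ha', rfl⟩ := ha
      have := Subgroup.mem_center_iff.1 ha' ⟨b, hb⟩
      exact (congrArg Subtype.val this).symm
  have hNeq : N = S := by
    refine le_antisymm (fun n hn => ?_) hSN
    have h1 := hNC hn
    have h2 : (S : Subgroup G) ⊔ Subgroup.centralizer (S : Set G) ≤
        { carrier := {g | ∃ s ∈ S, ∃ c ∈ Subgroup.centralizer (S : Set G), g = s * c}
          one_mem' := ⟨1, one_mem _, 1, one_mem _, by simp⟩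
          mul_mem' := by
            rintro _ _ ⟨s, hs, c, hc, rfl⟩ ⟨s', hs', c', hc', rfl⟩
            refine ⟨s * s', S.mul_mem hs hs', c * c', Subgroup.mul_mem _ hc hc', ?_⟩
            have := Subgroup.mem_centralizer_iff.1 hc s' hs'
            calc s * c * (s' * c') = s * (c * s') * c' := by group
              _ = s * (s' * c) * c' := by rw [this]
              _ = s * s' * (c * c') := by group
          inv_mem' := by
            rintro _ ⟨s, hs, c, hc, rfl⟩
            refine ⟨s⁻¹, S.inv_mem hs, c⁻¹, Subgroup.inv_mem _ hc, ?_⟩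
            have := Subgroup.mem_centralizer_iff.1 (Subgroup.inv_mem _ hc) s⁻¹ (S.inv_mem hs)
            rw [mul_inv_rev, this] } := by
      refine sup_le (fun s hs => ⟨s, hs, 1, one_mem _, (mul_one s).symm⟩) (fun c hc => ⟨1, one_mem _, c, hc, (one_mul c).symm⟩)
    obtain ⟨s, hs, c, hc, rfl⟩ := h2 h1
    have h3 : c = 1 := hcent c (by
      have := N.mul_mem (N.inv_mem (hSN hs)) hn
      rwa [inv_mul_cancel_left] at this) hc
    rw [h3, mul_one]
    exact hs
  rw [hNeq]
  exact hSs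

theorem conjNormal_inv {G : Type u} [Group G] (N : Subgroup G) [hN : N.Normal] (P : Subgroup G) {θ : N → ℂ}
    (h : ∀ φ ∈ P.map (MulAut.conjNormal (H := N)), ∀ s : N, θ (φ s) = θ s) :
    ∀ g ∈ P, ∀ n : N, θ ⟨g * n * g⁻¹, hN.conj_mem (n : G) n.2 g⟩ = θ n := by
  intro g hg n
  have h1 := h _ ⟨g, hg, rfl⟩ n
  rw [← h1]
  rfl

/-- An invariant nonlinear irreducible character of degree prime to `p`. -/
theorem exists_inv {G : Type u} [Group G] [Finite G] (N : Subgroup G) [hN : N.Normal] {p : ℕ} [hp : Fact p.Prime]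
    (P : Sylow p G) (hperf : commutator N = ⊤)
    (hfix : ¬ p ∣ Nat.card N → N ⊓ centralizer ((P : Subgroup G) : Set G) ≠ ⊥) :
    ∃ θ : IrrCharacter N, charDegree (θ : N → ℂ) ≠ 1 ∧ ¬ p ∣ charDegree (θ : N → ℂ) ∧
      ∀ g ∈ (P : Subgroup G), ∀ n : N, (θ : N → ℂ) ⟨g * n * g⁻¹, hN.conj_mem (n : G) n.2 g⟩ = (θ : N → ℂ) n := by
  classical
  by_cases hpN : p ∣ Nat.card N
  · obtain ⟨θ, h1, h2, h3⟩ := exists_fixed hperf hpN _ (P.2.map (MulAut.conjNormal (H := N)))
    exact ⟨θ, h1, h2, conjNormal_inv N _ h3⟩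
  · have := Fintype.ofFinite G
    have := Fintype.ofFinite N
    obtain ⟨n, hn⟩ := P.2.exists_card_eq
    have hcop : (Nat.card N).Coprime (Nat.card (P : Subgroup G)) := by
      rw [hn]
      exact Nat.Coprime.pow_right n (((Nat.Prime.coprime_iff_not_dvd hp.1).2 hpN).symm)
    have hsolv : Group.IsSolvable (P : Subgroup G) := by
      have := P.2.isNilpotent
      infer_instance
    have key := S4445.result N (P : Subgroup G) (fun s _ g hg => hN.conj_mem g hg s) hcop hsolv
    have : Finite (IrrCharacter N) := finite_irr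
    obtain ⟨c, hc, hc1⟩ : ∃ c : G, c ∈ N ⊓ centralizer ((P : Subgroup G) : Set G) ∧ c ≠ 1 := by
      by_contra hcon
      push Not at hcon
      exact hfix hpN ((Subgroup.eq_bot_iff_forall _).2 hcon)
    have hcN : c ∈ N := hc.1
    have hcP : ∀ s ∈ (P : Subgroup G), s * c = c * s := fun s hs => Subgroup.mem_centralizer_iff.1 hc.2 s hs
    have hinvcls : ∀ d : N, (∀ s ∈ (P : Subgroup G), s * (d : G) = d * s) →
        ∀ s ∈ (P : Subgroup G), ∀ g g' : N, (g' : G) = s * g * s⁻¹ → ConjClasses.mk g = ConjClasses.mk d →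
          ConjClasses.mk g' = ConjClasses.mk d := by
      intro d hd s hs g g' hg' hg
      rw [ConjClasses.mk_eq_mk_iff_isConj] at hg ⊢
      obtain ⟨x, hx⟩ := isConj_iff.1 hg
      have hx' : (x : G) * g * (x : G)⁻¹ = d := congrArg Subtype.val hx
      refine isConj_iff.2 ⟨⟨s * x * s⁻¹, hN.conj_mem _ x.2 s⟩, Subtype.ext ?_⟩
      show (s * x * s⁻¹) * (g' : G) * (s * x * s⁻¹)⁻¹ = d
      rw [hg']
      have h2 : (s * x * s⁻¹) * (s * (g : G) * s⁻¹) * (s * (x : G) * s⁻¹)⁻¹ = s * (x * g * (x : G)⁻¹) * s⁻¹ := by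
        group
      rw [h2, hx', hd s hs, mul_inv_cancel_right]
    have h2 : 1 < Nat.card {K : ConjClasses N // ∀ s ∈ (P : Subgroup G), ∀ g g' : N, (g' : G) = s * g * s⁻¹ →
        ConjClasses.mk g = K → ConjClasses.mk g' = K} := by
      rw [Finite.one_lt_card_iff_nontrivial]
      refine ⟨⟨ConjClasses.mk 1, hinvcls 1 (fun s _ => by simp)⟩,
        ⟨ConjClasses.mk ⟨c, hcN⟩, hinvcls ⟨c, hcN⟩ hcP⟩, ?_⟩
      intro h
      have h3 := congrArg Subtype.val h
      simp only at h3
      rw [ConjClasses.mk_eq_mk_iff_isConj, isConj_one_right] at h3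
      exact hc1 (congrArg Subtype.val h3)
    rw [← key, Finite.one_lt_card_iff_nontrivial] at h2
    obtain ⟨⟨θ, hθ⟩, hne⟩ := exists_ne (α := {χ : IrrCharacter N // ∀ s ∈ (P : Subgroup G), ∀ g g' : N,
      (g' : G) = s * g * s⁻¹ → (χ : N → ℂ) g' = (χ : N → ℂ) g}) ⟨⟨1, isIrr_one⟩, fun s _ g g' _ => rfl⟩
    refine ⟨θ, ?_, ?_, ?_⟩
    · intro h3
      apply hne
      exact Subtype.ext (Subtype.ext (eq_one_of_degree hperf θ.2 h3))
    · intro h3
      exact hpN (h3.trans (Blocks.Knorr.charDegree_dvd θ.2))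
    · intro g hg n
      exact hθ g hg n _ rfl

theorem degree_dvd {G : Type u} [Group G] [Finite G] (N : Subgroup G) [hN : N.Normal] (χ : IrrCharacter G)
    (θ : IrrCharacter N) (h : ip (fun n : N => (χ : G → ℂ) n) (θ : N → ℂ) ≠ 0) :
    charDegree (θ : N → ℂ) ∣ charDegree (χ : G → ℂ) := by
  have := Fintype.ofFinite G
  have := Fintype.ofFinite N
  rw [H626.ip_eq] at h
  exact (S0887.result N χ χ.2 θ θ.2 h _ _ (Irr.one_eq χ) (Irr.one_eq θ)).1

/-- **The reduction.** -/
theorem reduction {p : ℕ} [hp : Fact p.Prime]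
    (htab : ∀ (S : Type u) [Group S] [Finite S] [IsSimpleGroup S], (∃ a b : S, a * b ≠ b * a) → CompS p S)
    (hfix : ∀ (X : Type u) [Group X] [Finite X] (A G : Subgroup X), A ≤ normalizer (G : Set X) →
      (Nat.card A).Coprime (Nat.card G) → ¬ Group.IsSolvable G → G ⊓ centralizer (A : Set X) ≠ ⊥) :
    ∀ (n : ℕ) (G : Type u) [Group G] [Finite G], Nat.card G = n →
      (∀ χ : IrrCharacter G, ¬ p ∣ charDegree (χ : G → ℂ) →
        (charDegree (χ : G → ℂ) = 1 ∨ (charDegree (χ : G → ℂ)).Prime)) → Group.IsSolvable G := by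
  intro n
  induction n using Nat.strong_induction_on with
  | _ n ih =>
  intro G _ _ hn H
  by_contra hns
  have hnt : Nontrivial G := by
    by_contra h
    rw [not_nontrivial_iff_subsingleton] at h
    exact hns (by infer_instance)
  -- a minimal normal subgroup
  obtain ⟨N, hN, hN1, hmin⟩ : ∃ N : Subgroup G, N.Normal ∧ N ≠ ⊥ ∧
      ∀ K : Subgroup G, K.Normal → K ≤ N → K = ⊥ ∨ K = N := by
    have hne : ({K : Subgroup G | K.Normal ∧ K ≠ ⊥}).Nonempty := ⟨⊤, inferInstance, top_ne_bot⟩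
    obtain ⟨N, hN⟩ := (Set.toFinite {K : Subgroup G | K.Normal ∧ K ≠ ⊥}).exists_minimal hne
    refine ⟨N, hN.1.1, hN.1.2, fun K hK hle => ?_⟩
    by_cases h : K = ⊥
    · exact Or.inl h
    · exact Or.inr (le_antisymm hle (hN.2 ⟨hK, h⟩ hle))
  -- the quotient
  have hquot : Group.IsSolvable (G ⧸ N) := by
    refine ih (Nat.card (G ⧸ N)) ?_ (G ⧸ N) rfl ?_
    · rw [← hn, ← N.card_mul_index]
      have h1 : 1 < Nat.card N := by
        rw [Subgroup.one_lt_card_iff_ne_bot]
        exact hN1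
      have h2 : 0 < N.index := Nat.pos_of_ne_zero N.index_ne_zero_of_finite
      show N.index < _
      nlinarith
    · intro χ hχ
      have h1 : charDegree ((χ : G ⧸ N → ℂ) ∘ (QuotientGroup.mk' N)) = charDegree (χ : G ⧸ N → ℂ) :=
        charDegree_comp _ _
      have h2 := H ⟨(χ : G ⧸ N → ℂ) ∘ (QuotientGroup.mk' N),
        isIrr_comp _ (QuotientGroup.mk'_surjective N) χ.2⟩ (by
          show ¬ p ∣ charDegree ((χ : G ⧸ N → ℂ) ∘ (QuotientGroup.mk' N))
          rwa [h1])
      change charDegree ((χ : G ⧸ N → ℂ) ∘ (QuotientGroup.mk' N)) = 1 ∨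
        (charDegree ((χ : G ⧸ N → ℂ) ∘ (QuotientGroup.mk' N))).Prime at h2
      rwa [h1] at h2
  have hNns : ¬ Group.IsSolvable N := by
    intro h
    exact hns (Group.isSolvable_of_ker_le_range N.subtype (QuotientGroup.mk' N) (by simp))
  have hna : ¬ ∀ a ∈ N, ∀ b ∈ N, a * b = b * a := by
    intro h
    apply hNns
    exact Group.isSolvable_of_comm fun a b => Subtype.ext (h a a.2 b b.2)
  have hperf : commutator N = ⊤ := by
    rcases hmin ((commutator N).map N.subtype) inferInstance (Subgroup.map_subtype_le _) with h | h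
    · exfalso
      apply hna
      intro a ha b hb
      have h1 : ⁅(⟨a, ha⟩ : N), (⟨b, hb⟩ : N)⁆ ∈ commutator N :=
        Subgroup.commutator_mem_commutator (Subgroup.mem_top _) (Subgroup.mem_top _)
      have h2 : ((⁅(⟨a, ha⟩ : N), (⟨b, hb⟩ : N)⁆ : N) : G) ∈ (commutator N).map N.subtype := ⟨_, h1, rfl⟩
      rw [h, Subgroup.mem_bot] at h2
      have h3 : ⁅(⟨a, ha⟩ : N), (⟨b, hb⟩ : N)⁆ = 1 := Subtype.ext h2
      rw [commutatorElement_eq_one_iff_mul_comm] at h3
      exact congrArg Subtype.val h3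
    · rw [eq_top_iff]
      intro x _
      have h1 : (x : G) ∈ (commutator N).map N.subtype := by rw [h]; exact x.2
      obtain ⟨y, hy, hyx⟩ := h1
      have : y = x := Subtype.ext hyx
      rwa [← this]
  let P : Sylow p G := default
  have hfix' : ¬ p ∣ Nat.card N → N ⊓ centralizer ((P : Subgroup G) : Set G) ≠ ⊥ := by
    intro hpN
    refine hfix G (P : Subgroup G) N ?_ ?_ hNns
    · rw [Subgroup.normalizer_eq_top]
      exact le_top
    · obtain ⟨k, hk⟩ := P.2.exists_card_eq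
      rw [hk]
      exact Nat.Coprime.pow_left k ((Nat.Prime.coprime_iff_not_dvd hp.1).2 hpN)
  obtain ⟨θ, hθ1, hθp, hθinv⟩ := exists_inv N P hperf hfix'
  obtain ⟨χ, hχp, hχθ⟩ := exists_over N P hperf θ hθp hθinv
  have hdvd := degree_dvd N χ θ hχθ
  have hχr : (charDegree (χ : G → ℂ)).Prime := by
    rcases H χ hχp with h | h
    · exfalso
      rw [h, Nat.dvd_one] at hdvd
      exact hθ1 hdvd
    · exact h
  have heq : charDegree (θ : N → ℂ) = charDegree (χ : G → ℂ) :=
    ((Nat.dvd_prime hχr).1 hdvd).resolve_left hθ1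
  have hirr : IsIrrCharacter N (fun n : N => (χ : G → ℂ) n) := by
    refine isIrr_restrict_iff N (isIrr_isCharacter χ.2) θ.2 hχθ ?_
    rw [Irr.one_eq, Irr.one_eq, heq]
  have hsimp : IsSimpleGroup N := simple_of_prime N hN1 hmin hna χ.2 hχr (Irr.one_eq χ) hirr
  have hna' : ∃ a b : N, a * b ≠ b * a := by
    by_contra hcon
    push Not at hcon
    exact hna fun a ha b hb => congrArg Subtype.val (hcon ⟨a, ha⟩ ⟨b, hb⟩)
  obtain ⟨θ', h1, h2, h3, h4⟩ := htab N hna' _ (P.2.map (MulAut.conjNormal (H := N)))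
  obtain ⟨χ', hχ'p, hχθ'⟩ := exists_over N P hperf θ' h1 (conjNormal_inv N _ h4)
  have hdvd' := degree_dvd N χ' θ' hχθ'
  rcases H χ' hχ'p with h | h
  · rw [h, Nat.dvd_one] at hdvd'
    exact h2 hdvd'
  · rcases (Nat.dvd_prime h).1 hdvd' with h5 | h5
    · exact h2 h5
    · exact h3 (by rw [h5]; exact h)

end Cfsg.Agent.H741.Pd
end
end
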